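import Cfsg.Agent.Lib.TwoChars.Symmetric
import Cfsg.Agent.Lib.ModRep.Main

/-!
# The centre of a block algebra has dimension `k(B)`
-/

set_option autoImplicit false
set_option linter.unusedSectionVars false
set_option linter.style.haveILetI false
set_option maxSynthPendingDepth 3

namespace CfsgLib.TwoChars

open Cfsg MonoidAlgebra CfsgLib.Blocks CfsgLib.BrauerPairs CfsgLib.ModRep

universe u

variable {G : Type u} [Group G] [Fintype G] [Fintype (ConjClasses G)]

/-- The central element with prescribed coefficients on the classes. -/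
noncomputable def classElt (F : Type*) [Field F] :
    (ConjClasses G → F) →ₗ[F] MonoidAlgebra F G where
  toFun v := ofFun fun x => v (ConjClasses.mk x)
  map_add' v w := by ext x; simp
  map_smul' r v := by ext x; simp

theorem coeff_classElt {F : Type*} [Field F] (v : ConjClasses G → F) (x : G) :
    (classElt F v).coeff x = v (ConjClasses.mk x) := coeff_ofFun _ x

theorem mk_out (c : ConjClasses G) : ConjClasses.mk c.out = c := Quotient.out_eq c

theorem classElt_injective {F : Type*} [Field F] :
    Function.Injective (classElt (G := G) F) := fun v w h => funext fun c => by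
  have h1 := congrArg (fun a => a.coeff c.out) h
  simpa only [coeff_classElt, mk_out] using h1

theorem classElt_mem_center {F : Type*} [Field F] (v : ConjClasses G → F) :
    classElt F v ∈ Subalgebra.center F (MonoidAlgebra F G) := by
  rw [mem_center_iff_coeff]
  intro g h
  simp only [coeff_classElt]
  rw [ConjClasses.mk_eq_mk_iff_isConj.2 (isConj_iff.2 ⟨h, rfl⟩ : IsConj g (h * g * h⁻¹))]

theorem exists_classElt {F : Type*} [Field F] {c : MonoidAlgebra F G}
    (hc : c ∈ Subalgebra.center F (MonoidAlgebra F G)) : ∃ v, classElt F v = c := by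
  refine ⟨fun d => c.coeff d.out, ?_⟩
  ext x
  rw [coeff_classElt]
  obtain ⟨h, hh⟩ := isConj_iff.1 (ConjClasses.mk_eq_mk_iff_isConj.1
    (Quotient.out_eq (ConjClasses.mk x)) : IsConj (ConjClasses.mk x).out x)
  conv_rhs => rw [← hh]
  exact ((mem_center_iff_coeff c).1 hc _ h).symm

/-- The dimension of `a` times the centre is the rank of its matrix on the class sums. -/
theorem finrank_mul_center {F : Type*} [Field F] [DecidableEq (ConjClasses G)]
    {a : MonoidAlgebra F G} (ha : a ∈ Subalgebra.center F (MonoidAlgebra F G))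
    {A : Matrix (ConjClasses G) (ConjClasses G) F}
    (hA : ∀ c d, A c d = (a * classElt F (Pi.single d 1)).coeff c.out) :
    Module.finrank F (LinearMap.range ((LinearMap.mulLeft F a).comp (classElt (G := G) F))) =
      A.rank := by
  have h : (LinearMap.mulLeft F a).comp (classElt (G := G) F) =
      (classElt F).comp A.mulVecLin := by
    refine LinearMap.pi_ext' fun d => LinearMap.ext_ring ?_
    simp only [LinearMap.comp_apply, LinearMap.coe_single, LinearMap.mulLeft_apply,
      Matrix.mulVecLin_apply, Matrix.mulVec_single_one]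
    obtain ⟨v, hv⟩ := exists_classElt (Subalgebra.mul_mem _ ha
      (classElt_mem_center (F := F) (Pi.single d 1)))
    rw [← hv]
    congr 1
    funext c
    rw [Matrix.col_apply, hA, ← hv, coeff_classElt]
    rw [mk_out]
  rw [h, LinearMap.range_comp, Matrix.rank]
  exact (Submodule.equivMapOfInjective _ classElt_injective _).finrank_eq.symm

variable {p : ℕ} {M : Ideal AlgInt}

theorem finrank_complex (B : Set (IrrCharacter G)) :
    Module.finrank ℂ (LinearMap.range
      ((LinearMap.mulLeft ℂ (blockIdem B)).comp (classElt (G := G) ℂ))) = Nat.card B := by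
  classical
  have : Fintype B := Fintype.ofFinite B
  set V := LinearMap.range ((LinearMap.mulLeft ℂ (blockIdem B)).comp (classElt (G := G) ℂ))
  let Ω : V →ₗ[ℂ] (B → ℂ) :=
    LinearMap.pi fun χ : B => (omega ((χ : IrrCharacter G) : G → ℂ)).comp V.subtype
  have hinj : Function.Injective Ω := by
    refine (injective_iff_map_eq_zero Ω).2 ?_
    rintro ⟨_, v, rfl⟩ h0
    refine Subtype.ext ?_
    simp only [LinearMap.comp_apply, LinearMap.mulLeft_apply, ZeroMemClass.coe_zero]
    refine central_ext (Subalgebra.mul_mem _ (blockIdem_mem_center B) (classElt_mem_center v))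
      (Subalgebra.zero_mem _) fun χ => ?_
    rw [map_zero]
    by_cases hχ : χ ∈ B
    · exact congrFun h0 ⟨χ, hχ⟩
    · rw [omega_mul χ (blockIdem_mem_center B), omega_blockIdem, if_neg hχ, zero_mul]
  have hsurj : Function.Surjective Ω := by
    intro g
    obtain ⟨v, hv⟩ := exists_classElt (Subalgebra.sum_mem _
      (fun χ (_ : χ ∈ (Finset.univ : Finset B)) => Subalgebra.smul_mem _
        (blockIdem_mem_center ({(χ : IrrCharacter G)} : Set (IrrCharacter G))) (g χ)))
    refine ⟨⟨_, v, rfl⟩, funext fun χ => ?_⟩
    show omega ((χ : IrrCharacter G) : G → ℂ) (blockIdem B * classElt ℂ v) = g χ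
    rw [omega_mul _ (blockIdem_mem_center B), omega_blockIdem, if_pos χ.2, one_mul, hv, map_sum,
      Finset.sum_eq_single χ]
    · rw [map_smul, omega_blockIdem, if_pos (Set.mem_singleton _), smul_eq_mul, mul_one]
    · intro ψ _ hψ
      rw [map_smul, omega_blockIdem,
        if_neg (fun h => hψ (Subtype.ext (Set.mem_singleton_iff.1 h).symm)), smul_zero]
    · exact fun h => absurd (Finset.mem_univ _) h
  rw [(LinearEquiv.ofBijective Ω ⟨hinj, hsurj⟩).finrank_eq, Module.finrank_fintype_fun_eq_card,
    Nat.card_eq_fintype_card]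

variable [M.IsMaximal]

theorem finrank_residue (hM : IsPModular p M) {B : Set (IrrCharacter G)} (hB : IsPBlock M B) :
    Module.finrank (ResK M) (LinearMap.range
      ((LinearMap.mulLeft (ResK M) (eG hM B)).comp (classElt (G := G) (ResK M)))) = Nat.card B := by
  classical
  obtain ⟨u, hu⟩ := BrauerPairs.exists_lift hM (a := blockIdem B)
    fun x => by simpa using blockCoeff_mem hM hB x
  let T : Matrix (ConjClasses G) (ConjClasses G) (lRing hM) := fun c d =>
    (u * ofFun fun x : G => if ConjClasses.mk x = d then (1 : lRing hM) else 0).coeff c.out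
  have hmap : ∀ (F : Type) (_ : Field F) (f : lRing hM →+* F) (c d : ConjClasses G),
      (T.map f) c d = (MonoidAlgebra.mapRingHom G f u * classElt F (Pi.single d 1)).coeff c.out := by
    intro F _ f c d
    have h : classElt F (Pi.single d 1) = MonoidAlgebra.mapRingHom G f
        (ofFun fun x : G => if ConjClasses.mk x = d then (1 : lRing hM) else 0) := by
      ext x
      rw [coeff_classElt, Pi.single_apply]
      by_cases hx : ConjClasses.mk x = d <;> simp [hx]
    rw [Matrix.map_apply, h, ← map_mul]
    simp [T, -map_mul]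
  have hK : MonoidAlgebra.mapRingHom G (resK hM) u = eG hM B := by
    rw [← redFun_mapRingHom, hu, eG_eq_redFun]
  have hKc : eG hM B ∈ Subalgebra.center (ResK M) (MonoidAlgebra (ResK M) G) := by
    rw [mem_center_iff_coeff]
    intro g h
    exact coeff_redFun_congr hM (BrauerPairs.blockCoeff_conj B h g)
  have hC : (T.map (lRing hM).subtype).rank = Nat.card B := by
    rw [← finrank_complex B]
    refine (finrank_mul_center (blockIdem_mem_center B) fun c d => ?_).symm
    rw [hmap ℂ inferInstance (lRing hM).subtype c d, hu]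
  rw [finrank_mul_center hKc (A := T.map (resK hM)) fun c d => by
    rw [hmap (ResK M) inferInstance (resK hM) c d, hK], ← hC]
  -- the matrix is idempotent
  refine rank_red_eq hM T (Matrix.map_injective (f := (lRing hM).subtype) Subtype.val_injective ?_)
  show (T * T).map (lRing hM).subtype = T.map (lRing hM).subtype
  rw [Matrix.map_mul]
  have hact : ∀ w : ConjClasses G → ℂ,
      classElt ℂ ((T.map (lRing hM).subtype).mulVec w) = blockIdem B * classElt ℂ w := by
    intro w
    obtain ⟨v, hv⟩ := exists_classElt (Subalgebra.mul_mem _ (blockIdem_mem_center B)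
      (classElt_mem_center (F := ℂ) w))
    rw [← hv]
    congr 1
    funext c
    have h := congrArg (fun a => a.coeff c.out) hv
    simp only [coeff_classElt, mk_out] at h
    rw [h, Matrix.mulVec, dotProduct]
    conv_rhs => rw [show w = ∑ d, w d • Pi.single d (1 : ℂ) from pi_eq_sum_univ' w, map_sum,
      Finset.mul_sum, coeff_sum, Finsupp.finsetSum_apply]
    refine Finset.sum_congr rfl fun d _ => ?_
    rw [hmap ℂ inferInstance (lRing hM).subtype c d, hu, map_smul, mul_smul_comm]
    simp [mul_comm]
  refine Matrix.ext_of_mulVec_single fun d => classElt_injective ?_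
  rw [← Matrix.mulVec_mulVec, hact, hact, ← mul_assoc, isIdempotentElem_blockIdem B]

/-- The symmetric data of a block with two characters. -/
theorem exists_symData (hM : IsPModular p M) {B : Set (IrrCharacter G)} (hB : IsPBlock M B)
    (h2 : Nat.card B = 2) :
    ∃ (z : MonoidAlgebra (ResK M) G) (τ : MonoidAlgebra (ResK M) G →ₗ[ResK M] ResK M),
      SymData (eG hM B) z τ := by
  classical
  set e := eG hM B
  have hb := isBlockIdem_eG hM hB
  set V := LinearMap.range ((LinearMap.mulLeft (ResK M) e).comp (classElt (G := G) (ResK M)))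
  have hV : Module.finrank (ResK M) V = 2 := (finrank_residue hM hB).trans h2
  have hecm : e ∈ Subalgebra.center (ResK M) (MonoidAlgebra (ResK M) G) := by
    rw [mem_center_iff_coeff]
    intro g h
    exact coeff_redFun_congr hM (BrauerPairs.blockCoeff_conj B h g)
  have hec : ∀ x, e * x = x * e := fun x => (Subalgebra.mem_center_iff.1 hecm x).symm
  have hVmem : ∀ w ∈ V, e * w = w ∧ w ∈ Subalgebra.center (ResK M) (MonoidAlgebra (ResK M) G) := by
    rintro _ ⟨v, rfl⟩
    simp only [LinearMap.comp_apply, LinearMap.mulLeft_apply]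
    exact ⟨by rw [← mul_assoc, hb.idem], Subalgebra.mul_mem _ hecm (classElt_mem_center v)⟩
  have hmemV : ∀ c ∈ Subalgebra.center (ResK M) (MonoidAlgebra (ResK M) G), e * c = c → c ∈ V := by
    intro c hc hec'
    obtain ⟨v, rfl⟩ := exists_classElt hc
    exact ⟨v, hec'⟩
  have heV : e ∈ V := hmemV e hecm hb.idem
  obtain ⟨w, hwV, hw⟩ : ∃ w ∈ V, w ∉ (ResK M) ∙ e := by
    by_contra hcon
    push Not at hcon
    have h1 : V ≤ (ResK M) ∙ e := hcon
    have := (Submodule.finrank_mono h1).trans (finrank_span_le_card _)
    simp [hV] at this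
  obtain ⟨hwe, hwc⟩ := hVmem w hwV
  obtain ⟨a, ha⟩ := hb.locally w (mem_suppAlg_top _)
    (mem_fixAlg_iff_coeff.2 fun g _ x => (mem_center_iff_coeff w).1 hwc x g)
  rw [← hec w, hwe] at ha
  set z := w - a • e with hz
  have hzV : z ∈ V := V.sub_mem hwV (V.smul_mem _ heV)
  obtain ⟨hze, hzc⟩ := hVmem z hzV
  have hzmul : ∀ x, z * x = x * z := fun x => (Subalgebra.mem_center_iff.1 hzc x).symm
  have hzne : z ≠ 0 := fun h => hw (Submodule.mem_span_singleton.2 ⟨a, (sub_eq_zero.1 h).symm⟩)
  have hspan : ∀ c ∈ V, ∃ r s : ResK M, c = r • e + s • z := by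
    have hind : LinearIndependent (ResK M) ![e, z] := by
      rw [LinearIndependent.pair_iff' hb.ne_zero]
      intro r hr
      exact hw (Submodule.mem_span_singleton.2 ⟨r + a, by rw [add_smul, hr, hz, sub_add_cancel]⟩)
    have heq : Submodule.span (ResK M) (Set.range ![e, z]) = V := by
      refine Submodule.eq_of_le_of_finrank_eq (Submodule.span_le.2 ?_) ?_
      · rintro _ ⟨i, rfl⟩
        fin_cases i
        · exact heV
        · exact hzV
      · rw [finrank_span_eq_card hind, hV]; simp
    intro c hc
    rw [← heq, Matrix.range_cons, Matrix.range_cons, Matrix.range_empty, Set.union_empty,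
      Set.singleton_union, Submodule.mem_span_pair] at hc
    obtain ⟨r, s, hrs⟩ := hc
    exact ⟨r, s, hrs.symm⟩
  have hz2 : z * z = 0 := by
    obtain ⟨r, s, hrs⟩ := hspan (z * z) (hmemV _ (Subalgebra.mul_mem _ hzc hzc)
      (by rw [← mul_assoc, hze]))
    obtain ⟨n, hn⟩ := ha
    have hex : ∃ j, z ^ (j + 1) = 0 := ⟨n, by rw [pow_succ, hn, zero_mul]⟩
    set j := Nat.find hex
    have hj : z ^ (j + 1) = 0 := Nat.find_spec hex
    rcases Nat.eq_zero_or_pos j with h0 | h0
    · rw [h0, zero_add, pow_one] at hj
      rw [hj, zero_mul]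
    rcases Nat.lt_or_ge 1 j with h1 | h1
    · exfalso
      obtain ⟨i, hi⟩ : ∃ i, j = i + 2 := ⟨j - 2, by omega⟩
      have hm1 : z ^ (i + 2) ≠ 0 := Nat.find_min hex (m := i + 1) (by omega)
      have hez : e * z ^ (i + 2) = z ^ (i + 2) := by rw [pow_succ' z (i + 1), ← mul_assoc, hze]
      have hr : r = 0 := by
        have h := congrArg (fun t => t * z ^ (i + 2)) hrs
        simp only [add_mul, smul_mul_assoc, hez, mul_assoc, ← pow_succ', hi] at h hj
        rw [show i + 2 + 1 + 1 = (i + 2 + 1) + 1 from rfl, pow_succ, hj, zero_mul, smul_zero,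
          add_zero] at h
        exact (smul_eq_zero.1 h.symm).resolve_right hm1
      have h := congrArg (fun t => t * z ^ (i + 1)) hrs
      simp only [hr, zero_smul, zero_add, smul_mul_assoc, mul_assoc, ← pow_succ'] at h
      rw [show i + 1 + 1 + 1 = j + 1 by omega, hj] at h
      have hs : s = 0 := (smul_eq_zero.1 h.symm).resolve_right hm1
      apply hm1
      rw [show i + 2 = i + 1 + 1 from rfl, pow_succ', pow_succ', ← mul_assoc, hrs, hr, hs]
      simp
    · rw [show j = 1 by omega, pow_two] at hj
      exact hj
  let τ : MonoidAlgebra (ResK M) G →ₗ[ResK M] ResK M :=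
    { toFun := fun x => x.coeff 1
      map_add' := fun x y => by simp
      map_smul' := fun r x => by simp }
  have hτ : ∀ x, τ x = x.coeff 1 := fun x => rfl
  have hsymm : ∀ x y, τ (x * y) = τ (y * x) := fun x y => by
    induction y using MonoidAlgebra.induction_on with
    | of h => simp [hτ, coeff_mul_single_apply, coeff_single_mul_apply]
    | add y y' hy hy' => rw [mul_add, add_mul, map_add, map_add, hy, hy']
    | smul r y hy => rw [mul_smul_comm, smul_mul_assoc, map_smul, map_smul, hy]
  refine ⟨z, τ,
    { idem := hb.idem, central := hec, symm := hsymm, z_mem := hze, z_comm := hzmul, z_sq := hz2,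
      z_ne := hzne, nondeg := ?_, centre := ?_ }⟩
  · intro x _ h
    ext g
    simpa [hτ, coeff_mul_single_apply] using h (single g⁻¹ 1)
  · intro c hc hcomm
    exact hspan c (hmemV c (Subalgebra.mem_center_iff.2 fun x => (hcomm x).symm) hc)

end CfsgLib.TwoChars
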