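import Cfsg.Agent.Lib.TwoChars.Morita
import Cfsg.Agent.Lib.TwoChars.Center
import Cfsg.Agent.Lib.Blocks12.Bounds
import Cfsg.Agent.Lib.Blocks12.RankOne
import Mathlib.GroupTheory.PGroup
import Mathlib.GroupTheory.Sylow

/-!
# Blocks with one Brauer character and at most four characters

The block algebra is a matrix algebra over a commutative local algebra of dimension `k(B)`, and a
projective module has dimension divisible by the order of a Sylow subgroup.
-/

set_option autoImplicit false
set_option linter.unusedSectionVars false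
set_option linter.style.haveILetI false
set_option maxSynthPendingDepth 3
set_option maxHeartbeats 1000000
set_option synthInstance.maxHeartbeats 400000

namespace CfsgLib.TwoChars

open Cfsg MonoidAlgebra CfsgLib.Blocks CfsgLib.BrauerPairs CfsgLib.ModRep CfsgLib.Contribution

universe u

section PGroupModule

variable {K : Type*} [Field K] {p : ℕ} [hp : Fact p.Prime] [CharP K p] {P : Type*} [Group P]
  [Finite P] (hP : IsPGroup p P) {V : Type*} [AddCommGroup V] [Module K V]
  (ρ : P →* Module.End K V)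
include hP

theorem exists_fixed_of_invariant {W : Submodule K V} (hW : ∀ g, ∀ v ∈ W, ρ g v ∈ W)
    (hne : W ≠ ⊥) : ∃ v ∈ W, v ≠ 0 ∧ ∀ g, ρ g v = v := by
  classical
  have : Fintype P := Fintype.ofFinite P
  obtain ⟨v₀, hv₀, hv₀0⟩ := (Submodule.ne_bot_iff _).1 hne
  let f : (P → ZMod p) →+ V :=
    { toFun := fun c => ∑ g, ZMod.castHom (dvd_refl p) K (c g) • ρ g v₀
      map_zero' := by simp
      map_add' := fun c c' => by simp [add_smul, Finset.sum_add_distrib] }
  have hf : ∀ c, f c = ∑ g, ZMod.castHom (dvd_refl p) K (c g) • ρ g v₀ := fun c => rfl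
  have hfix : ∀ γ c, ρ γ (f c) = f fun d => c (γ⁻¹ * d) := by
    intro γ c
    simp only [hf, map_sum, map_smul, ← Module.End.mul_apply, ← map_mul]
    exact Fintype.sum_equiv (Equiv.mulLeft γ) _ _ fun d => by simp
  let _ : MulAction P f.range :=
    { smul := fun γ s => ⟨ρ γ s, by
        obtain ⟨c, hc⟩ := s.2
        exact ⟨_, by rw [← hc, hfix]⟩⟩
      one_smul := fun s => Subtype.ext (show ρ 1 (s : V) = s by rw [map_one]; rfl)
      mul_smul := fun a b s => Subtype.ext
        (show ρ (a * b) (s : V) = ρ a (ρ b s) by rw [map_mul]; rfl) }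
  have : Finite f.range := by
    have h : (Set.range f).Finite := Set.finite_range f
    exact h.to_subtype
  have hv : v₀ ∈ f.range := ⟨Pi.single 1 1, by
    rw [hf, Finset.sum_eq_single 1 (fun g _ hg => by simp [hg])
      (fun h => absurd (Finset.mem_univ _) h), Pi.single_eq_same, map_one, one_smul, map_one]
    rfl⟩
  have hord : addOrderOf (⟨v₀, hv⟩ : f.range) = p :=
    addOrderOf_eq_prime (Subtype.ext (by
      show p • v₀ = 0
      rw [← Nat.cast_smul_eq_nsmul K, CharP.cast_eq_zero, zero_smul]))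
      fun h => hv₀0 (congrArg Subtype.val h)
  have hdvd : p ∣ Nat.card f.range := by
    conv_lhs => rw [← hord]
    exact addOrderOf_dvd_natCard _
  obtain ⟨s, hs, hs0⟩ := hP.exists_fixed_point_of_prime_dvd_card_of_fixed_point f.range hdvd
    (a := 0) fun γ => Subtype.ext (show ρ γ 0 = 0 from map_zero _)
  refine ⟨s, ?_, fun h => hs0 (Subtype.ext h.symm), fun γ => congrArg Subtype.val (hs γ)⟩
  obtain ⟨c, hc⟩ := s.2
  rw [← hc, hf]
  exact W.sum_mem fun g _ => W.smul_mem _ (hW g v₀ hv₀)

/-- An invariant subspace has dimension at most the group order times that of its fixed points. -/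
theorem finrank_le_card_mul [FiniteDimensional K V] {W Fx : Submodule K V}
    (hW : ∀ g, ∀ v ∈ W, ρ g v ∈ W) (hFx : ∀ v, (∀ g, ρ g v = v) → v ∈ Fx) :
    Module.finrank K W ≤ Nat.card P * Module.finrank K ↥(W ⊓ Fx) := by
  classical
  have : Fintype P := Fintype.ofFinite P
  set X : Submodule K V := W ⊓ Fx
  obtain ⟨π, hπ⟩ := X.subtype.exists_leftInverse_of_injective X.ker_subtype
  let Φ : W →ₗ[K] (P → X) := LinearMap.pi fun g => π.comp ((ρ g).comp W.subtype)
  have hΦ : ∀ (w : W) g, Φ w g = π (ρ g w) := fun w g => rfl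
  have hinj : Function.Injective Φ := by
    rw [← LinearMap.ker_eq_bot]
    by_contra hne
    let W' : Submodule K V := (LinearMap.ker Φ).map W.subtype
    have hW'ne : W' ≠ ⊥ := fun h => hne (by
      rw [Submodule.eq_bot_iff]
      intro w hw
      have hmem : (w : V) ∈ W' := ⟨w, hw, rfl⟩
      rw [h, Submodule.mem_bot] at hmem
      exact Subtype.ext hmem)
    obtain ⟨v, hv, hv0, hvfix⟩ := exists_fixed_of_invariant hP ρ (W := W') (fun γ v hv => by
      obtain ⟨w, hw, rfl⟩ := hv
      refine ⟨⟨ρ γ w, hW γ w w.2⟩, ?_, rfl⟩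
      show Φ _ = 0
      funext g
      rw [hΦ]
      have h := congrFun (show Φ w = 0 from hw) (g * γ)
      rw [hΦ, map_mul] at h
      exact h) hW'ne
    obtain ⟨w, hw, rfl⟩ := hv
    apply hv0
    have h1 := congrFun (show Φ w = 0 from hw) 1
    rw [hΦ, map_one] at h1
    have h2 := LinearMap.congr_fun hπ ⟨(w : V), ⟨w.2, hFx _ hvfix⟩⟩
    exact (congrArg Subtype.val (h2.symm.trans h1) : (w : V) = 0)
  have h := LinearMap.finrank_le_finrank_of_injective hinj
  rwa [Module.finrank_pi_fintype, Finset.sum_const, Finset.card_univ, smul_eq_mul,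
    ← Nat.card_eq_fintype_card] at h

end PGroupModule

/-- The module of a minimal idempotent, in coordinates. -/
theorem SymBlk.exists_coordRep {k : Type*} [Field k] [IsAlgClosed k] {R : Type*} [Ring R]
    [Algebra k R] [FiniteDimensional k R] {e f : R} {τ : R →ₗ[k] k} (D : SymBlk e τ)
    (hf : IsMinIdem e f) {C : R →ₗ[k] k} (hCf : C f = 1)
    (hCmul : ∀ x y, C (x * f * y) = C x * C y) (hCff : ∀ x, C (f * x * f) = C x) :
    ∃ (d : ℕ) (Θ : R →ₐ[k] Module.End k (Fin d → k)), d ≠ 0 ∧ Function.Surjective Θ ∧ Θ e = 1 ∧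
      Θ f ≠ 0 ∧ ∀ a, Θ a ≠ 0 → ∃ x y, C (y * a * x) ≠ 0 := by
  classical
  obtain ⟨W, Θ, φ, hsurj, hΘe, hΘmul, hΘ1, hker, hφtr, hφf, -, -, -⟩ :=
    D.exists_module hf hCf hCmul hCff
  let b := (Module.finBasis k W).equivFun
  have hne : Θ f ≠ 0 := fun h => by
    rw [hφtr, h, map_zero] at hφf
    exact zero_ne_one hφf
  refine ⟨_, (b.conjAlgEquiv k).toAlgHom.comp (AlgHom.ofLinearMap Θ hΘ1 hΘmul),
    fun h0 => hne ?_, (b.conjAlgEquiv k).surjective.comp hsurj, ?_, fun h => hne ?_, fun a ha => ?_⟩
  · have : Subsingleton W := Module.finrank_zero_iff.1 h0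
    exact LinearMap.ext fun w => Subsingleton.elim _ _
  · have h1 : Θ e = 1 := by
      have h := hΘe 1
      rwa [mul_one, hΘ1] at h
    show b.conjAlgEquiv k (Θ e) = 1
    rw [h1, map_one]
  · exact (b.conjAlgEquiv k).injective (h.trans (map_zero _).symm)
  · by_contra hcon
    push Not at hcon
    apply ha
    show b.conjAlgEquiv k (Θ a) = 0
    rw [(hker a).2 hcon, map_zero]

variable {G : Type u} [Group G] [Fintype G] {p : ℕ} [hp : Fact p.Prime]

/-- The right ideal of an idempotent has dimension divisible by the order of a `p`-subgroup. -/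
theorem card_dvd_finrank_mulRight {K : Type*} [Field K] [CharP K p] (P : Subgroup G)
    (hP : IsPGroup p P) {f : MonoidAlgebra K G} (hf : f * f = f) :
    Nat.card P ∣ Module.finrank K (LinearMap.range (LinearMap.mulRight K f)) := by
  classical
  let ρ : P →* Module.End K (MonoidAlgebra K G) :=
    { toFun := fun g => LinearMap.mulLeft K (MonoidAlgebra.of K G g)
      map_one' := LinearMap.ext fun v => by simp [← one_def]
      map_mul' := fun a b => LinearMap.ext fun v => by
        simp [Module.End.mul_apply, ← mul_assoc, single_mul_single] }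
  have hρ : ∀ g v, ρ g v = MonoidAlgebra.of K G (g : G) * v := fun g v => rfl
  let Fx : Submodule K (MonoidAlgebra K G) :=
    { carrier := {v | ∀ g : P, ρ g v = v}
      zero_mem' := fun g => map_zero _
      add_mem' := fun {a b} ha hb g => by rw [map_add, ha g, hb g]
      smul_mem' := fun r {a} ha g => by rw [map_smul, ha g] }
  have hFx : ∀ v, v ∈ Fx ↔ ∀ (g : P) y, v.coeff ((g : G)⁻¹ * y) = v.coeff y := by
    intro v
    constructor
    · intro h g y
      have h1 := congrArg (fun a => a.coeff y) (h g)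
      simpa [hρ, coeff_single_mul_apply] using h1
    · intro h g
      ext y
      simp [hρ, coeff_single_mul_apply, h g y]
  have hFxdim : Nat.card P * Module.finrank K Fx = Nat.card G := by
    let E : Fx →ₗ[K] (G ⧸ P → K) :=
      { toFun := fun v q => (v : MonoidAlgebra K G).coeff q.out⁻¹
        map_add' := fun v w => by funext q; simp
        map_smul' := fun r v => by funext q; simp }
    have hval : ∀ (v : Fx) (y : G), E v (y⁻¹ : G) = (v : MonoidAlgebra K G).coeff y := by
      intro v y
      show (v : MonoidAlgebra K G).coeff (Quotient.out (QuotientGroup.mk y⁻¹ : G ⧸ P))⁻¹ = _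
      obtain ⟨h, hh⟩ := QuotientGroup.mk_out_eq_mul P y⁻¹
      rw [hh, mul_inv_rev, inv_inv]
      exact (hFx _).1 v.2 h y
    have hbij : Function.Bijective E := by
      refine ⟨fun v w h => Subtype.ext ?_, fun φ => ?_⟩
      · ext y
        rw [← hval, h, hval]
      · let v : MonoidAlgebra K G := ofFun fun y => φ (y⁻¹ : G)
        have hv : v ∈ Fx := (hFx _).2 fun g y => by
          simp only [v, coeff_ofFun]
          congr 1
          refine QuotientGroup.eq.2 ?_
          simp only [mul_inv_rev, inv_inv]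
          rw [mul_assoc]
          simp
        refine ⟨⟨v, hv⟩, funext fun q => ?_⟩
        obtain ⟨y, rfl⟩ := QuotientGroup.mk_surjective q
        have h := hval ⟨v, hv⟩ y⁻¹
        rw [inv_inv] at h
        rw [h]
        simp [v, coeff_ofFun]
    have : Fintype (G ⧸ P) := Fintype.ofFinite _
    rw [(LinearEquiv.ofBijective E hbij).finrank_eq, Module.finrank_fintype_fun_eq_card,
      ← Nat.card_eq_fintype_card, P.card_eq_card_quotient_mul_card_subgroup, mul_comm]
  have hG : Module.finrank K (MonoidAlgebra K G) = Nat.card G := by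
    rw [(coeffLinearEquiv K (M := G)).finrank_eq,
      (Finsupp.linearEquivFunOnFinite K K G).finrank_eq, Module.finrank_fintype_fun_eq_card,
      Nat.card_eq_fintype_card]
  set A₁ := LinearMap.range (LinearMap.mulRight K f)
  set A₂ := LinearMap.range (LinearMap.mulRight K (1 - f))
  have hA : ∀ a : MonoidAlgebra K G, ∀ (g : P), ∀ v ∈ LinearMap.range (LinearMap.mulRight K a),
      ρ g v ∈ LinearMap.range (LinearMap.mulRight K a) := by
    rintro a g _ ⟨v, rfl⟩
    exact ⟨_ * v, by simp [hρ, mul_assoc]; rfl⟩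
  have h1 := finrank_le_card_mul hP ρ (W := A₁) (Fx := Fx) (hA f) fun v hv => hv
  have h2 := finrank_le_card_mul hP ρ (W := A₂) (Fx := Fx) (hA (1 - f)) fun v hv => hv
  have hsup : A₁ ⊔ A₂ = ⊤ := by
    refine eq_top_iff.2 fun v _ => Submodule.mem_sup.2 ⟨v * f, ⟨v, rfl⟩, v * (1 - f), ⟨v, rfl⟩, ?_⟩
    rw [← mul_add, add_sub_cancel, mul_one]
  have hinf : A₁ ⊓ A₂ = ⊥ := by
    rw [Submodule.eq_bot_iff]
    rintro _ ⟨⟨u, rfl⟩, v, hv⟩
    simp only [LinearMap.mulRight_apply] at hv ⊢
    have h := congrArg (· * f) hv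
    simp only [mul_assoc, sub_mul, one_mul, hf, sub_self, mul_zero] at h
    exact h.symm
  have hdim := Submodule.finrank_sup_add_finrank_inf_eq A₁ A₂
  rw [hsup, hinf, finrank_bot, finrank_top, hG, add_zero] at hdim
  have hfix : Module.finrank K ↥(A₁ ⊓ Fx) + Module.finrank K ↥(A₂ ⊓ Fx) ≤ Module.finrank K Fx := by
    have h := Submodule.finrank_sup_add_finrank_inf_eq (A₁ ⊓ Fx) (A₂ ⊓ Fx)
    have h0 : Module.finrank K ↥((A₁ ⊓ Fx) ⊓ (A₂ ⊓ Fx)) = 0 :=
      Submodule.finrank_eq_zero.2 (eq_bot_iff.2 (hinf ▸ inf_le_inf inf_le_left inf_le_left))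
    have h3 := Submodule.finrank_mono
      (sup_le (inf_le_right : A₁ ⊓ Fx ≤ Fx) (inf_le_right : A₂ ⊓ Fx ≤ Fx))
    omega
  exact ⟨Module.finrank K ↥(A₁ ⊓ Fx), by nlinarith [Nat.mul_le_mul_left (Nat.card P) hfix]⟩

variable [Fintype (ConjClasses G)] {M : Ideal AlgInt} [M.IsMaximal]

/-- The coefficient at the identity is a symmetric form on the block. -/
theorem exists_symBlk (hM : IsPModular p M) {B : Set (IrrCharacter G)} (hB : IsPBlock M B) :
    ∃ τ : MonoidAlgebra (ResK M) G →ₗ[ResK M] ResK M, SymBlk (eG hM B) τ := by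
  classical
  have hecm : eG hM B ∈ Subalgebra.center (ResK M) (MonoidAlgebra (ResK M) G) := by
    rw [mem_center_iff_coeff]
    intro g h
    exact coeff_redFun_congr hM (BrauerPairs.blockCoeff_conj B h g)
  let τ : MonoidAlgebra (ResK M) G →ₗ[ResK M] ResK M :=
    { toFun := fun x => x.coeff 1
      map_add' := fun x y => by simp
      map_smul' := fun r x => by simp }
  have hτ : ∀ x, τ x = x.coeff 1 := fun x => rfl
  have hsymm : ∀ x y, τ (x * y) = τ (y * x) := fun x y => by
    induction y using MonoidAlgebra.induction_on with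
    | of h => simp [hτ, coeff_mul_single_apply, coeff_single_mul_apply]
    | add y y' hy hy' => rw [mul_add, add_mul, map_add, map_add, hy, hy']
    | smul r y hy => rw [mul_smul_comm, smul_mul_assoc, map_smul, map_smul, hy]
  exact ⟨τ, (isBlockIdem_eG hM hB).idem,
    fun x => (Subalgebra.mem_center_iff.1 hecm x).symm, hsymm, fun x _ h => by
      ext g
      simpa [hτ, coeff_mul_single_apply] using h (single g⁻¹ 1)⟩

/-- The centre of the block algebra has dimension `k(B)`. -/
theorem finrank_blockCentre (hM : IsPModular p M) {B : Set (IrrCharacter G)} (hB : IsPBlock M B) :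
    Module.finrank (ResK M) (blockCentre (ResK M) (eG hM B)) = Nat.card B := by
  obtain ⟨τ, D⟩ := exists_symBlk hM hB
  have hecm : eG hM B ∈ Subalgebra.center (ResK M) (MonoidAlgebra (ResK M) G) :=
    Subalgebra.mem_center_iff.2 fun x => (D.central x).symm
  rw [← finrank_residue hM hB]
  refine (LinearEquiv.ofEq _ _ ?_).finrank_eq
  ext c
  rw [mem_blockCentre]
  constructor
  · rintro ⟨h1, h2⟩
    obtain ⟨v, rfl⟩ := exists_classElt (Subalgebra.mem_center_iff.2 fun x => (h2 x).symm)
    exact ⟨v, h1⟩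
  · rintro ⟨v, rfl⟩
    simp only [LinearMap.comp_apply, LinearMap.mulLeft_apply]
    exact ⟨by rw [← mul_assoc, D.idem], fun x => (Subalgebra.mem_center_iff.1
      (Subalgebra.mul_mem _ hecm (classElt_mem_center v)) x).symm⟩

/-- A minimal idempotent gives a simple module of the block not killing it. -/
theorem exists_simpleRep (hM : IsPModular p M) {B : Set (IrrCharacter G)}
    {τ : MonoidAlgebra (ResK M) G →ₗ[ResK M] ResK M} (D : SymBlk (eG hM B) τ)
    {f : MonoidAlgebra (ResK M) G} (hf : IsMinIdem (eG hM B) f)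
    {C : MonoidAlgebra (ResK M) G →ₗ[ResK M] ResK M} (hCf : C f = 1)
    (hCmul : ∀ x y, C (x * f * y) = C x * C y) (hCff : ∀ x, C (f * x * f) = C x) :
    ∃ (d : ℕ) (rho : G →* Module.End (ResK M) (Fin d → ResK M)),
      IsSimpleRep rho ∧ InBlock hM B rho ∧
      MonoidAlgebra.lift (ResK M) (Module.End (ResK M) (Fin d → ResK M)) G rho f ≠ 0 ∧
      ∀ a, MonoidAlgebra.lift (ResK M) (Module.End (ResK M) (Fin d → ResK M)) G rho a ≠ 0 →
        ∃ x y, C (y * a * x) ≠ 0 := by
  classical
  haveI := BPStar.isAlgClosed_res hM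
  obtain ⟨d, Θ, hd, hsurj, hΘe, hne, hker⟩ := D.exists_coordRep hf hCf hCmul hCff
  refine ⟨d, (Θ : MonoidAlgebra (ResK M) G →* _).comp (MonoidAlgebra.of (ResK M) G), ?_⟩
  have hlift : MonoidAlgebra.lift (ResK M) _ G
      ((Θ : MonoidAlgebra (ResK M) G →* _).comp (MonoidAlgebra.of (ResK M) G)) = Θ :=
    (MonoidAlgebra.lift (ResK M) _ G).apply_symm_apply Θ
  rw [InBlock, hlift]
  refine ⟨⟨hd, fun U hU => ?_⟩, hΘe, hne, hker⟩
  have hall : ∀ T : Module.End (ResK M) (Fin d → ResK M), ∀ v ∈ U, T v ∈ U := by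
    intro T v hv
    obtain ⟨a, rfl⟩ := hsurj T
    induction a using MonoidAlgebra.induction_on with
    | of g => exact hU g v hv
    | add x y hx hy => rw [map_add]; exact U.add_mem hx hy
    | smul r x hx => rw [map_smul]; exact U.smul_mem r hx
  refine or_iff_not_imp_left.2 fun hU0 => eq_top_iff.2 fun w _ => ?_
  obtain ⟨v, hv, hv0⟩ := (Submodule.ne_bot_iff _).1 hU0
  obtain ⟨l, hl⟩ : ∃ l : Module.Dual (ResK M) (Fin d → ResK M), l v ≠ 0 := by
    by_contra hcon
    push Not at hcon
    exact hv0 ((Module.forall_dual_apply_eq_zero_iff (ResK M) v).1 hcon)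
  have h := hall (((l v)⁻¹ • l).smulRight w) v hv
  simpa [hl] using h

/-- With one Brauer character a minimal idempotent generates the block. -/
theorem e_mem_twoSided_of_rankOne (hM : IsPModular p M) {B : Set (IrrCharacter G)}
    (hB : IsPBlock M B) (hl : blockRank p B = 1) {f : MonoidAlgebra (ResK M) G}
    (hf : IsMinIdem (eG hM B) f) :
    eG hM B ∈ SymData.twoSided (k := ResK M) f := by
  classical
  haveI := BPStar.isAlgClosed_res hM
  obtain ⟨τ, D⟩ := exists_symBlk hM hB
  refine mem_of_minIdem_mem (e := eG hM B) _ (fun g hg => ?_) (eG hM B) D.idem D.idem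
  obtain ⟨Cf, -, hCf, hCfmul, hCfff⟩ := hf.exists_functional (k := ResK M)
  obtain ⟨Cg, hCgn, hCg, hCgmul, hCgff⟩ := hg.exists_functional (k := ResK M)
  obtain ⟨d₁, r₁, hs₁, hb₁, hn₁, -⟩ := exists_simpleRep hM D hf hCf hCfmul hCfff
  obtain ⟨d₂, r₂, hs₂, hb₂, -, hk₂⟩ := exists_simpleRep hM D hg hCg hCgmul hCgff
  have hiso : Iso r₁ r₂ := by
    by_contra hni
    have hni' : ¬ Iso r₂ r₁ := fun ⟨L, hL⟩ => hni ⟨L.symm, fun x v => by
      apply L.injective
      rw [hL, LinearEquiv.apply_symm_apply, LinearEquiv.apply_symm_apply]⟩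
    have h := card_le_blockRank hM hB (Fin.cons d₁ (Fin.cons d₂ Fin.elim0))
      (Fin.cons r₁ (Fin.cons r₂ (fun i => i.elim0)))
      (fun i => by fin_cases i <;> assumption) (fun i => by fin_cases i <;> assumption)
      (fun i j hij => by
        fin_cases i <;> fin_cases j <;> first | rfl | exact absurd hij hni | exact absurd hij hni')
    omega
  obtain ⟨L, hL⟩ := hiso
  have hint : ∀ a v, L (MonoidAlgebra.lift (ResK M) _ G r₁ a v) =
      MonoidAlgebra.lift (ResK M) _ G r₂ a (L v) := by
    intro a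
    induction a using MonoidAlgebra.induction_on with
    | of g => intro v; simpa using hL g v
    | add x y hx hy => intro v; simp [hx, hy]
    | smul r x hx => intro v; simp [hx]
  obtain ⟨x, y, hxy⟩ := hk₂ f fun h => hn₁ (LinearMap.ext fun v => L.injective (by
    rw [hint, h, LinearMap.zero_apply, LinearMap.zero_apply, map_zero]))
  obtain ⟨u, -, -, hu⟩ := hg.exists_left_inv hxy (hCgn (y * f * x))
    (by rw [mul_sub, hg.left, mul_smul_comm, hg.idem])
    (by rw [sub_mul, hg.right, smul_mul_assoc, hg.idem])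
  rw [add_sub_cancel] at hu
  exact hu ▸ Submodule.subset_span ⟨(u * g * y, x * g), by simp only [mul_assoc]⟩

omit [M.IsMaximal] [Fintype (ConjClasses G)] in
/-- A block with one Brauer character and at most four characters has `p ^ d = k(B)`. -/
theorem pow_defect_eq_card (hM : IsPModular p M) {B : Set (IrrCharacter G)} (hB : IsPBlock M B)
    (hl : blockRank p B = 1) (hk : Nat.card B ≤ 4) (hd : 1 ≤ blockDefect p B) :
    p ^ blockDefect p B = Nat.card B := by
  classical
  haveI : Fintype (ConjClasses G) := Fintype.ofFinite _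
  haveI := hM.2.1
  haveI := BPStar.isAlgClosed_res hM
  haveI := charP_res hM
  obtain ⟨τ, D⟩ := exists_symBlk hM hB
  obtain ⟨f, hf⟩ : ∃ f, IsMinIdem (eG hM B) f := by
    by_contra hcon
    push Not at hcon
    have h := mem_of_minIdem_mem (e := eG hM B) (⊥ : Submodule (ResK M) _)
      (fun f hf => absurd hf (hcon f)) _ D.idem D.idem
    exact (isBlockIdem_eG hM hB).ne_zero ((Submodule.mem_bot _).1 h)
  have hfull := e_mem_twoSided_of_rankOne hM hB hl hf
  have hZ : Module.finrank (ResK M) (centralPart (corner (ResK M) f)) = Nat.card B :=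
    (D.finrank_centralPart hf hfull).trans (finrank_blockCentre hM hB)
  have hcomm := D.corner_comm hf (hZ.le.trans hk)
  have hΛ : Module.finrank (ResK M) (corner (ResK M) f) = Nat.card B := by
    rw [← hZ, show centralPart (corner (ResK M) f) = corner (ResK M) f from le_antisymm
      (fun c hc => (mem_centralPart.1 hc).1) fun c hc => mem_centralPart.2 ⟨hc, hcomm c hc⟩]
  obtain ⟨n, hA, hE⟩ := D.finrank_free hf hfull
  rw [hΛ] at hA hE
  obtain ⟨P⟩ := (inferInstance : Nonempty (Sylow p G))
  have hdvd := card_dvd_finrank_mulRight (P : Subgroup G) P.isPGroup' hf.idem (K := ResK M)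
  rw [hA, P.card_eq_multiplicity] at hdvd
  obtain ⟨g, d, hval, hsq⟩ := rank_one_structure hM hB hl
  have hLR : LinearMap.mulLeft (ResK M) (eG hM B) = LinearMap.mulRight (ResK M) (eG hM B) :=
    LinearMap.ext fun x => D.central x
  rw [hLR, ModRep.finrank_block hM hB, finsum_block_eq] at hE
  set F : ℤ := ∑ ψ ∈ members B, g ψ * (charDegree (ψ : G → ℂ) : ℤ)
  have hdegN : ∀ χ ∈ members B, charDegree (χ : G → ℂ) = d χ * F.natAbs := by
    intro χ hχ
    have h := hval χ (mem_members.1 hχ) 1
      (by rw [IsPRegular, orderOf_one]; exact hM.1.not_dvd_one)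
    have h' : (charDegree (χ : G → ℂ) : ℤ) = (d χ : ℤ) * F := by
      apply Int.cast_injective (α := ℂ)
      rw [(CfsgLib.ClassCount.degree_eq χ).1] at h
      simp only [F, Int.cast_mul, Int.cast_natCast, Int.cast_sum]
      rw [h]
      congr 1
      exact Finset.sum_congr rfl fun ψ _ => by rw [(CfsgLib.ClassCount.degree_eq ψ).1]
    simpa [Int.natAbs_mul] using congrArg Int.natAbs h'
  rw [Finset.sum_congr rfl fun χ hχ => by rw [hdegN χ hχ, mul_pow], ← Finset.sum_mul, hsq] at hE
  obtain ⟨χ, hχ, -, hmin⟩ := exists_height_zero hM hB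
  have hpos := (CfsgLib.ClassCount.degree_eq χ).2.2
  rw [hdegN χ (mem_members.2 hχ)] at hpos
  have hF0 : F.natAbs ≠ 0 := fun h => by rw [h, mul_zero] at hpos; exact lt_irrefl 0 hpos
  have hd0 : d χ ≠ 0 := fun h => by rw [h, zero_mul] at hpos; exact lt_irrefl 0 hpos
  have hk0 : Nat.card B ≠ 0 := fun h => by
    have : Nonempty B := ⟨⟨χ, hχ⟩⟩
    exact Nat.card_pos.ne' h
  have hn0 : n ≠ 0 := fun h => by
    rw [h, zero_pow two_ne_zero, zero_mul] at hE
    exact mul_ne_zero (pow_ne_zero _ hp.out.ne_zero) (pow_ne_zero 2 hF0) hE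
  have hE' := congrArg (fun t => t.factorization p) hE
  simp only [Nat.factorization_mul (pow_ne_zero _ hp.out.ne_zero) (pow_ne_zero 2 hF0),
    Nat.factorization_mul (pow_ne_zero 2 hn0) hk0, Nat.factorization_pow, Finsupp.add_apply,
    Finsupp.smul_apply, smul_eq_mul, hp.out.factorization_self, mul_one] at hE'
  rw [hp.out.pow_dvd_iff_le_factorization (mul_ne_zero hn0 hk0),
    Nat.factorization_mul hn0 hk0, Finsupp.add_apply] at hdvd
  rw [hdegN χ (mem_members.2 hχ), Nat.factorization_mul hd0 hF0, Finsupp.add_apply] at hmin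
  have hdef : blockDefect p B = (Nat.card G).factorization p - minExp p B := rfl
  have hle : blockDefect p B ≤ (Nat.card B).factorization p := by omega
  have hkd : p ^ blockDefect p B ∣ Nat.card B :=
    (hp.out.pow_dvd_iff_le_factorization hk0).2 hle
  obtain ⟨c, hc⟩ := hkd
  have h2 : 2 ≤ p ^ blockDefect p B :=
    hp.out.two_le.trans (Nat.le_self_pow (by omega) p)
  have hb := card_bound hM hB
  rw [Nat.mul_comm 2, pow_mul, hc] at hb
  rcases Nat.lt_or_ge c 2 with hc2 | hc2
  · interval_cases c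
    · rw [mul_zero] at hc; exact absurd hc hk0
    · rw [hc, mul_one]
  · exfalso
    generalize p ^ blockDefect p B = q at *
    have hq : q = 2 := by nlinarith
    subst hq
    omega

end CfsgLib.TwoChars
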