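import Mathlib.LinearAlgebra.Eigenspace.Triangularizable
import Mathlib.FieldTheory.Minpoly.Field
import Mathlib.RingTheory.Nilpotent.Basic
import Mathlib.LinearAlgebra.Trace

/-!
# Minimal idempotents of a finite-dimensional algebra over an algebraically closed field
-/

set_option autoImplicit false
set_option linter.unusedSectionVars false

namespace CfsgLib.TwoChars

variable {k : Type*} [Field k] {R : Type*} [Ring R] [Algebra k R]

/-- An idempotent below `e` with no proper idempotent below it. -/
structure IsMinIdem (e f : R) : Prop where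
  idem : f * f = f
  le : e * f = f
  ne_zero : f ≠ 0
  minimal : ∀ g : R, g * g = g → f * g = g → g * f = g → g = 0 ∨ g = f

/-- A power of an element is divisible by the next one inside the algebra it generates. -/
theorem exists_pow_eq_mul [FiniteDimensional k R] (y : R) :
    ∃ (m : ℕ) (w : R), (∀ a : R, Commute a y → Commute a w) ∧ y ^ m = y ^ (m + 1) * w := by
  classical
  have hint : IsIntegral k y := IsIntegral.of_finite k y
  obtain ⟨Q, hQ, hQ0⟩ := Polynomial.exists_eq_pow_rootMultiplicity_mul_and_not_dvd (minpoly k y)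
    (minpoly.ne_zero hint) 0
  set m := Polynomial.rootMultiplicity 0 (minpoly k y)
  simp only [map_zero, sub_zero] at hQ hQ0
  rw [Polynomial.X_dvd_iff] at hQ0
  have h0 := minpoly.aeval k y
  rw [hQ, ← Polynomial.X_mul_divX_add Q, map_mul, map_pow, Polynomial.aeval_X, map_add, map_mul,
    Polynomial.aeval_X, Polynomial.aeval_C, Algebra.algebraMap_eq_smul_one] at h0
  set s := Polynomial.aeval y Q.divX
  refine ⟨m, -((Q.coeff 0)⁻¹ • s), fun a ha => ?_, ?_⟩
  · have hs : ∀ q : Polynomial k, Commute a (Polynomial.aeval y q) := fun q => by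
      induction q using Polynomial.induction_on' with
      | add u v hu hv => rw [map_add]; exact hu.add_right hv
      | monomial n c =>
        rw [Polynomial.aeval_monomial]
        exact (Algebra.commute_algebraMap_right c a).mul_right (ha.pow_right n)
    exact ((hs Q.divX).smul_right _).neg_right
  · rw [mul_add, mul_smul_comm, mul_one, ← mul_assoc, ← pow_succ, add_comm,
      add_eq_zero_iff_eq_neg] at h0
    calc y ^ m = (Q.coeff 0)⁻¹ • (Q.coeff 0 • y ^ m) := by
          rw [smul_smul, inv_mul_cancel₀ hQ0, one_smul]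
      _ = _ := by rw [h0, mul_neg, mul_smul_comm, smul_neg]

/-- Idempotents properly below `g` have smaller right ideals. -/
theorem finrank_range_lt [FiniteDimensional k R] {g h : R} (hgh : g * h = h) (hne : h ≠ g)
    (hhg : h * g = h) (hh : h * h = h) :
    Module.finrank k (LinearMap.range (LinearMap.mulLeft k h)) <
      Module.finrank k (LinearMap.range (LinearMap.mulLeft k g)) := by
  refine Submodule.finrank_lt_finrank_of_lt (lt_of_le_of_ne ?_ ?_)
  · rintro _ ⟨x, rfl⟩
    exact ⟨h * x, by simp only [LinearMap.mulLeft_apply, ← mul_assoc, hgh]⟩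
  · intro heq
    have hmem : LinearMap.mulLeft k g 1 ∈ LinearMap.range (LinearMap.mulLeft k g) :=
      LinearMap.mem_range_self _ 1
    rw [← heq] at hmem
    obtain ⟨x, hx⟩ := hmem
    simp only [LinearMap.mulLeft_apply, mul_one] at hx
    refine hne ?_
    rw [← hhg, ← hx, ← mul_assoc, hh]

/-- Every idempotent lies in a subspace containing the minimal ones. -/
theorem mem_of_minIdem_mem [FiniteDimensional k R] {e : R} (S : Submodule k R)
    (hS : ∀ f, IsMinIdem e f → f ∈ S) :
    ∀ g : R, g * g = g → e * g = g → g ∈ S := by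
  suffices h : ∀ (n : ℕ) (g : R),
      Module.finrank k (LinearMap.range (LinearMap.mulLeft k g)) = n →
        g * g = g → e * g = g → g ∈ S from fun g => h _ g rfl
  intro n
  induction n using Nat.strong_induction_on with
  | _ n ih =>
  intro g hn hg heg
  by_cases hg0 : g = 0
  · rw [hg0]; exact S.zero_mem
  by_cases hmin : ∀ h : R, h * h = h → g * h = h → h * g = h → h = 0 ∨ h = g
  · exact hS g ⟨hg, heg, hg0, hmin⟩
  push Not at hmin
  obtain ⟨h, hh, hgh, hhg, hh0, hhne⟩ := hmin
  have h1 : h ∈ S := ih _ (hn ▸ finrank_range_lt hgh hhne hhg hh) h rfl hh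
    (by rw [← hgh, ← mul_assoc, heg])
  have h2 : g - h ∈ S := by
    have e1 : g * (g - h) = g - h := by rw [mul_sub, hg, hgh]
    have e2 : (g - h) * g = g - h := by rw [sub_mul, hg, hhg]
    have e3 : (g - h) * (g - h) = g - h := by
      rw [sub_mul, mul_sub, mul_sub, hg, hgh, hhg, hh]; abel
    have e4 : e * (g - h) = g - h := by rw [mul_sub, heg, ← hgh, ← mul_assoc, heg]
    have e5 : g - h ≠ g := fun h' => hh0 (by simpa using h')
    exact ih _ (hn ▸ finrank_range_lt e1 e5 e2 e3) _ rfl e3 e4
  simpa using S.add_mem h1 h2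

namespace IsMinIdem

variable {e f : R} (hf : IsMinIdem e f)
include hf

theorem left {x : R} : f * (f * x * f) = f * x * f := by
  rw [← mul_assoc, ← mul_assoc, hf.idem]

theorem right {x : R} : f * x * f * f = f * x * f := by rw [mul_assoc, hf.idem]

/-- The corner of a minimal idempotent is local. -/
theorem exists_scalar [IsAlgClosed k] [FiniteDimensional k R] {x : R} (hl : f * x = x)
    (hr : x * f = x) : ∃ c : k, IsNilpotent (x - c • f) := by
  have hmap : ∀ v ∈ LinearMap.range (LinearMap.mulLeft k f),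
      LinearMap.mulLeft k x v ∈ LinearMap.range (LinearMap.mulLeft k f) := fun v _ =>
    ⟨x * v, by simp only [LinearMap.mulLeft_apply, ← mul_assoc, hl]⟩
  haveI : Nontrivial (LinearMap.range (LinearMap.mulLeft k f)) :=
    Submodule.nontrivial_iff_ne_bot.2 fun h => hf.ne_zero (by
      have h1 := LinearMap.mem_range_self (LinearMap.mulLeft k f) 1
      rwa [h, Submodule.mem_bot, LinearMap.mulLeft_apply, mul_one] at h1)
  obtain ⟨c, hc⟩ := Module.End.exists_eigenvalue ((LinearMap.mulLeft k x).restrict hmap)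
  obtain ⟨⟨v, hv⟩, hev⟩ := hc.exists_hasEigenvector
  have hxv : x * v = c • v := congrArg Subtype.val hev.apply_eq_smul
  have hv0 : v ≠ 0 := fun h => hev.2 (Subtype.ext h)
  have hfv : f * v = v := by
    obtain ⟨u, rfl⟩ := hv
    simp only [LinearMap.mulLeft_apply, ← mul_assoc, hf.idem]
  refine ⟨c, ?_⟩
  set y := x - c • f
  have hyl : f * y = y := by rw [mul_sub, hl, mul_smul_comm, hf.idem]
  have hyr : y * f = y := by rw [sub_mul, hr, smul_mul_assoc, hf.idem]
  have hyv : y * v = 0 := by rw [sub_mul, hxv, smul_mul_assoc, hfv, sub_self]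
  obtain ⟨m, w, hw, hm⟩ := exists_pow_eq_mul (k := k) y
  have hfy : Commute f y := hyl.trans hyr.symm
  have hfw : Commute f w := hw f hfy
  have hyw : Commute y w := hw y (Commute.refl y)
  have hit : ∀ j : ℕ, y ^ m = y ^ (m + j) * w ^ j := by
    intro j
    induction j with
    | zero => simp
    | succ j ih =>
      rw [ih, show m + (j + 1) = m + 1 + j by omega, pow_add, pow_add y (m + 1) j, hm,
        pow_succ' w j, ← mul_assoc, mul_assoc (y ^ (m + 1)) w (y ^ j),
        (hyw.symm.pow_right j).eq, ← mul_assoc]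
  set g := f * (y ^ m * w ^ m)
  have hcomm : Commute f (y ^ m * w ^ m) := (hfy.pow_right m).mul_right (hfw.pow_right m)
  have hyy : y ^ m * w ^ m * (y ^ m * w ^ m) = y ^ m * w ^ m := by
    rw [mul_assoc, ← mul_assoc (w ^ m), ← (hyw.pow_pow m m).eq, mul_assoc (y ^ m) (w ^ m),
      ← mul_assoc (y ^ m) (y ^ m), ← pow_add, ← mul_assoc, ← hit m]
  have hgg : g * g = g := by
    rw [show g * g = f * ((y ^ m * w ^ m) * f) * (y ^ m * w ^ m) by simp only [g, mul_assoc],
      ← hcomm.eq, ← mul_assoc f f, hf.idem, mul_assoc, hyy]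
  rcases hf.minimal g hgg (by rw [← mul_assoc, hf.idem])
      (by rw [mul_assoc, ← hcomm.eq, ← mul_assoc, hf.idem]) with h | h
  · refine ⟨m + 1, ?_⟩
    calc y ^ (m + 1) = y * y ^ m := pow_succ' y m
      _ = y * (f * (y ^ m * w ^ m) * y ^ m) := by
          rw [mul_assoc f, mul_assoc (y ^ m), ← (hyw.pow_pow m m).eq, ← mul_assoc (y ^ m),
            ← pow_add, ← hit m, ← mul_assoc, hyr]
      _ = 0 := by rw [show f * (y ^ m * w ^ m) = 0 from h, zero_mul, mul_zero]
  · rcases Nat.eq_zero_or_pos m with rfl | hm0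
    · exfalso
      apply hv0
      rw [pow_zero, zero_add, pow_one] at hm
      calc v = y * w * v := by rw [← hm, one_mul]
        _ = w * (y * v) := by rw [hyw.eq, mul_assoc]
        _ = 0 := by rw [hyv, mul_zero]
    · exfalso
      apply hv0
      obtain ⟨j, rfl⟩ := Nat.exists_eq_succ_of_ne_zero hm0.ne'
      calc v = g * v := by rw [h, hfv]
        _ = f * (y ^ j * (y * w ^ (j + 1) * v)) := by simp only [g, pow_succ, mul_assoc]
        _ = 0 := by rw [(hyw.pow_right (j + 1)).eq, mul_assoc, hyv, mul_zero, mul_zero, mul_zero]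

theorem not_nilpotent : ¬ IsNilpotent f := fun ⟨n, hn⟩ => hf.ne_zero (by
  have h : ∀ j : ℕ, f ^ (j + 1) = f := fun j => by
    induction j with
    | zero => rw [zero_add, pow_one]
    | succ j ih => rw [pow_succ, ih, hf.idem]
  rw [← h n, pow_succ, hn, zero_mul])

theorem exists_left_inv {c : k} (hc : c ≠ 0) {n : R} (hn : IsNilpotent n) (hl : f * n = n)
    (hr : n * f = n) : ∃ u : R, f * u = u ∧ u * f = u ∧ u * (c • f + n) = f := by
  obtain ⟨v, hv⟩ := (IsNilpotent.smul hn c⁻¹).isUnit_one_add
  refine ⟨c⁻¹ • (f * ↑v⁻¹ * f), by rw [mul_smul_comm, hf.left], by rw [smul_mul_assoc, hf.right], ?_⟩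
  have h1 : (1 + c⁻¹ • n) * f = c⁻¹ • (c • f + n) := by
    rw [add_mul, one_mul, smul_mul_assoc, hr, smul_add, smul_smul, inv_mul_cancel₀ hc, one_smul]
  rw [smul_mul_assoc, ← mul_smul_comm, ← h1, ← hv]
  have hfv : f * (↑v * f) = ↑v * f := by
    rw [hv, add_mul, one_mul, mul_add, hf.idem, smul_mul_assoc, mul_smul_comm, hr, hl]
  rw [mul_assoc (f * ↑v⁻¹), hfv, mul_assoc, Units.inv_mul_cancel_left, hf.idem]

theorem no_left_inv {x w : R} (hx : IsNilpotent x) (hl : f * x = x) (hwx : w * x = f) : False := by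
  obtain ⟨n, hn⟩ := hx
  have hzero : ∀ j : ℕ, x ^ (j + 1) = 0 → x = 0 := by
    intro j
    induction j with
    | zero => intro h; simpa using h
    | succ j ih =>
      intro h
      apply ih
      calc x ^ (j + 1) = f * x * x ^ j := by rw [hl, pow_succ']
        _ = w * x ^ (j + 1 + 1) := by rw [← hwx, pow_succ' x (j + 1), pow_succ' x j]; simp only [mul_assoc]
        _ = 0 := by rw [h, mul_zero]
  have h0 : x = 0 := hzero n (by rw [pow_succ, hn, zero_mul])
  exact hf.ne_zero (by rw [← hwx, h0, mul_zero])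

variable (k) [IsAlgClosed k] [FiniteDimensional k R]
include k

theorem nilpotent_mul_left {x r : R} (hx : IsNilpotent x) (hl : f * x = x) (hr : x * f = x)
    (hl' : f * r = r) (hr' : r * f = r) : IsNilpotent (r * x) := by
  obtain ⟨c, hc⟩ := hf.exists_scalar (k := k) (x := r * x) (by rw [← mul_assoc, hl'])
    (by rw [mul_assoc, hr])
  by_cases hc0 : c = 0
  · simpa [hc0] using hc
  exfalso
  obtain ⟨u, -, -, hu⟩ := hf.exists_left_inv hc0 hc
    (by rw [mul_sub, mul_smul_comm, hf.idem, ← mul_assoc, hl'])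
    (by rw [sub_mul, smul_mul_assoc, hf.idem, mul_assoc, hr])
  rw [add_sub_cancel] at hu
  exact hf.no_left_inv hx hl (w := u * r) (by rw [mul_assoc]; exact hu)

theorem nilpotent_mul_right {x r : R} (hx : IsNilpotent x) (hl : f * x = x) (hr : x * f = x)
    (hl' : f * r = r) (hr' : r * f = r) : IsNilpotent (x * r) := by
  obtain ⟨n, hn⟩ := hf.nilpotent_mul_left (k := k) hx hl hr hl' hr'
  refine ⟨n + 1, ?_⟩
  have h : ∀ j : ℕ, (x * r) ^ (j + 1) = x * (r * x) ^ j * r := fun j => by
    induction j with
    | zero => simp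
    | succ j ih => rw [pow_succ, ih, pow_succ (r * x) j]; simp only [mul_assoc]
  rw [h, hn, mul_zero, zero_mul]

theorem nilpotent_add {x y : R} (hx : IsNilpotent x) (hy : IsNilpotent y) (hxl : f * x = x)
    (hxr : x * f = x) (hyl : f * y = y) (hyr : y * f = y) : IsNilpotent (x + y) := by
  obtain ⟨c, hc⟩ := hf.exists_scalar (k := k) (x := x + y) (by rw [mul_add, hxl, hyl])
    (by rw [add_mul, hxr, hyr])
  by_cases hc0 : c = 0
  · simpa [hc0] using hc
  exfalso
  obtain ⟨u, hul, hur, hu⟩ := hf.exists_left_inv hc0 hc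
    (by rw [mul_sub, mul_smul_comm, hf.idem, mul_add, hxl, hyl])
    (by rw [sub_mul, smul_mul_assoc, hf.idem, add_mul, hxr, hyr])
  rw [add_sub_cancel, mul_add] at hu
  obtain ⟨u', -, -, hu'⟩ := hf.exists_left_inv (one_ne_zero : (1 : k) ≠ 0)
    (hf.nilpotent_mul_left (k := k) hx hxl hxr hul hur).neg
    (by rw [mul_neg, ← mul_assoc, hul]) (by rw [neg_mul, mul_assoc, hxr])
  rw [one_smul, ← sub_eq_add_neg, ← eq_sub_of_add_eq' hu] at hu'
  exact hf.no_left_inv hy hyl (w := u' * u) (by rw [mul_assoc]; exact hu')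

theorem scalar_unique {x : R} (hl : f * x = x) (hr : x * f = x) {a b : k}
    (ha : IsNilpotent (x - a • f)) (hb : IsNilpotent (x - b • f)) : a = b := by
  by_contra hne
  have h := hf.nilpotent_add (k := k) ha hb.neg
    (by rw [mul_sub, hl, mul_smul_comm, hf.idem]) (by rw [sub_mul, hr, smul_mul_assoc, hf.idem])
    (by rw [mul_neg, mul_sub, hl, mul_smul_comm, hf.idem])
    (by rw [neg_mul, sub_mul, hr, smul_mul_assoc, hf.idem])
  rw [show x - a • f + -(x - b • f) = (b - a) • f by rw [sub_smul]; abel] at h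
  have h2 := h.smul (b - a)⁻¹
  rw [smul_smul, inv_mul_cancel₀ (sub_ne_zero.2 (Ne.symm hne)), one_smul] at h2
  exact hf.not_nilpotent h2

/-- The scalar of an element at a minimal idempotent: linear, normalised and multiplicative. -/
theorem exists_functional : ∃ C : R →ₗ[k] k, (∀ x, IsNilpotent (f * x * f - C x • f)) ∧ C f = 1 ∧
    (∀ x y, C (x * f * y) = C x * C y) ∧ ∀ x, C (f * x * f) = C x := by
  choose C hC using fun x => hf.exists_scalar (k := k) (x := f * x * f) hf.left hf.right
  have hl : ∀ x, f * (f * x * f - C x • f) = f * x * f - C x • f := fun x => by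
    rw [mul_sub, hf.left, mul_smul_comm, hf.idem]
  have hr : ∀ x, (f * x * f - C x • f) * f = f * x * f - C x • f := fun x => by
    rw [sub_mul, hf.right, smul_mul_assoc, hf.idem]
  have huniq : ∀ x (a : k), IsNilpotent (f * x * f - a • f) → C x = a := fun x a ha =>
    hf.scalar_unique (k := k) hf.left hf.right (hC x) ha
  let L : R →ₗ[k] k :=
    { toFun := C
      map_add' := fun x y => huniq _ _ (by
        have h := hf.nilpotent_add (k := k) (hC x) (hC y) (hl x) (hr x) (hl y) (hr y)
        rwa [show f * (x + y) * f - (C x + C y) • f =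
          f * x * f - C x • f + (f * y * f - C y • f) by rw [mul_add, add_mul, add_smul]; abel])
      map_smul' := fun a x => huniq _ _ (by
        have h := (hC x).smul a
        rwa [smul_sub, smul_smul, ← smul_mul_assoc, ← mul_smul_comm] at h) }
  refine ⟨L, hC, huniq f 1 ?_, fun x y => ?_, fun x => huniq _ _ ?_⟩
  · rw [hf.idem, hf.idem, one_smul, sub_self]; exact IsNilpotent.zero
  · refine huniq _ _ ?_
    show IsNilpotent (f * (x * f * y) * f - (C x * C y) • f)
    have hprod : f * (x * f * y) * f = (f * x * f) * (f * y * f) := by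
      rw [show f * x * f * (f * y * f) = f * x * (f * f) * y * f by simp only [mul_assoc], hf.idem]
      simp only [mul_assoc]
    set n := f * x * f - C x • f with hn
    set m := f * y * f - C y • f with hm
    have hfm : f * m = m := hl y
    have hnf : n * f = n := hr x
    rw [hprod, show f * x * f = C x • f + n by rw [hn]; abel,
      show f * y * f = C y • f + m by rw [hm]; abel,
      show (C x • f + n) * (C y • f + m) - (C x * C y) • f = C x • m + (C y • n + n * m) by
        simp only [add_mul, mul_add, smul_mul_assoc, mul_smul_comm, hf.idem, smul_smul, smul_add,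
          hfm, hnf, mul_comm (C y) (C x)]
        abel]
    have hnm : IsNilpotent (C y • n + n * m) := hf.nilpotent_add (k := k) ((hC x).smul _)
      (hf.nilpotent_mul_right (k := k) (hC x) (hl x) (hr x) (hl y) (hr y))
      (by rw [mul_smul_comm, hl x]) (by rw [smul_mul_assoc, hr x])
      (by rw [← mul_assoc, hl x]) (by rw [mul_assoc, hr y])
    exact hf.nilpotent_add (k := k) ((hC y).smul _) hnm
      (by rw [mul_smul_comm, hl y]) (by rw [smul_mul_assoc, hr y])
      (by rw [mul_add, mul_smul_comm, hl x, ← mul_assoc, hl x])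
      (by rw [add_mul, smul_mul_assoc, hnf, mul_assoc n m f, show m * f = m from hr y])
  · rw [hf.left, hf.right]; exact hC x

end IsMinIdem

end CfsgLib.TwoChars
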