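import Cfsg.Agent.Lib.TwoChars.Symmetric
import Mathlib.Algebra.Algebra.Operations

/-!
# Symmetric local algebras with centre of dimension at most four are commutative

The local algebra is the corner `f R f` of a minimal idempotent in a block with symmetric form.
-/

set_option autoImplicit false
set_option linter.unusedSectionVars false
set_option maxSynthPendingDepth 3
set_option maxHeartbeats 1000000

namespace CfsgLib.TwoChars

variable {k : Type*} [Field k] {R : Type*} [Ring R] [Algebra k R]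

/-- The corner of `f`. -/
def corner (k : Type*) [Field k] {R : Type*} [Ring R] [Algebra k R] (f : R) : Submodule k R :=
  LinearMap.range ((LinearMap.mulLeft k f).comp (LinearMap.mulRight k f))

theorem corner_mem_iff {f : R} (hf : f * f = f) {x : R} :
    x ∈ corner k f ↔ f * x = x ∧ x * f = x := by
  constructor
  · rintro ⟨a, rfl⟩
    simp only [LinearMap.comp_apply, LinearMap.mulLeft_apply, LinearMap.mulRight_apply]
    exact ⟨by rw [← mul_assoc, hf], by rw [mul_assoc f, mul_assoc a, hf]⟩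
  · rintro ⟨h1, h2⟩
    exact ⟨x, by simp only [LinearMap.comp_apply, LinearMap.mulLeft_apply, LinearMap.mulRight_apply,
      h2, h1]⟩

/-- The span of the commutators of a subspace. -/
def commSpan (V : Submodule k R) : Submodule k R :=
  Submodule.span k {x | ∃ a ∈ V, ∃ b ∈ V, a * b - b * a = x}

/-- The central part of a subspace. -/
def centralPart (V : Submodule k R) : Submodule k R where
  carrier := {c | c ∈ V ∧ ∀ v ∈ V, c * v = v * c}
  zero_mem' := ⟨V.zero_mem, fun v _ => by rw [zero_mul, mul_zero]⟩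
  add_mem' := fun {a b} ha hb => ⟨V.add_mem ha.1 hb.1, fun v hv => by
    rw [add_mul, mul_add, ha.2 v hv, hb.2 v hv]⟩
  smul_mem' := fun r {a} ha => ⟨V.smul_mem r ha.1, fun v hv => by
    rw [smul_mul_assoc, mul_smul_comm, ha.2 v hv]⟩

theorem mem_centralPart {V : Submodule k R} {c : R} :
    c ∈ centralPart V ↔ c ∈ V ∧ ∀ v ∈ V, c * v = v * c := Iff.rfl

/-- The nilpotent corner elements. -/
def IsMinIdem.radical [IsAlgClosed k] [FiniteDimensional k R] {e f : R} (hf : IsMinIdem e f) :
    Submodule k R where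
  carrier := {x | IsNilpotent x ∧ f * x = x ∧ x * f = x}
  zero_mem' := ⟨IsNilpotent.zero, mul_zero _, zero_mul _⟩
  add_mem' := fun {a b} ha hb => ⟨hf.nilpotent_add (k := k) ha.1 hb.1 ha.2.1 ha.2.2 hb.2.1 hb.2.2,
    by rw [mul_add, ha.2.1, hb.2.1], by rw [add_mul, ha.2.2, hb.2.2]⟩
  smul_mem' := fun r {a} ha => ⟨ha.1.smul r, by rw [mul_smul_comm, ha.2.1],
    by rw [smul_mul_assoc, ha.2.2]⟩

namespace SymBlk

variable [IsAlgClosed k] [FiniteDimensional k R] {e f : R} {τ : R →ₗ[k] k} (D : SymBlk e τ)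
  (hf : IsMinIdem e f)
include D hf

theorem corner_e {x : R} (hx : x ∈ corner k f) : e * x = x := by
  have h := ((corner_mem_iff hf.idem).1 hx).1
  rw [← h, ← mul_assoc, hf.le]

theorem corner_nondeg {x : R} (hx : x ∈ corner k f) (h : ∀ y ∈ corner k f, τ (x * y) = 0) :
    x = 0 := by
  obtain ⟨h1, h2⟩ := (corner_mem_iff hf.idem).1 hx
  refine D.nondeg x (D.corner_e hf hx) fun y => ?_
  have h3 := h (f * y * f) ((corner_mem_iff hf.idem).2 ⟨hf.left, hf.right⟩)
  rw [← mul_assoc, ← mul_assoc, h2, D.symm, ← mul_assoc, h1] at h3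
  exact h3

theorem finrank_corner :
    Module.finrank k (corner k f) =
      Module.finrank k (commSpan (corner k f)) + Module.finrank k (centralPart (corner k f)) := by
  set V := corner k f
  have hle : commSpan V ≤ V := Submodule.span_le.2 fun x ⟨a, ha, b, hb, hx⟩ => by
    obtain ⟨a1, a2⟩ := (corner_mem_iff hf.idem).1 ha
    obtain ⟨b1, b2⟩ := (corner_mem_iff hf.idem).1 hb
    refine hx ▸ (corner_mem_iff hf.idem).2 ⟨?_, ?_⟩
    · rw [mul_sub, ← mul_assoc, ← mul_assoc, a1, b1]
    · rw [sub_mul, mul_assoc a, b2, mul_assoc b, a2]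
  let Φ : V →ₗ[k] Module.Dual k V := ((LinearMap.mul k R).compr₂ τ).compl₁₂ V.subtype V.subtype
  have hΦ : ∀ u v : V, Φ u v = τ ((u : R) * v) := fun u v => rfl
  have hinj : Function.Injective Φ := by
    refine (injective_iff_map_eq_zero Φ).2 fun u hu => Subtype.ext (D.corner_nondeg hf u.2 ?_)
    intro y hy
    exact LinearMap.congr_fun hu ⟨y, hy⟩
  let eΦ := LinearEquiv.ofBijective Φ ⟨hinj, (LinearMap.injective_iff_surjective_of_finrank_eq_finrank
    Subspace.dual_finrank_eq.symm).1 hinj⟩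
  set S := (commSpan V).comap V.subtype
  have hS : Module.finrank k S = Module.finrank k (commSpan V) :=
    (Submodule.comapSubtypeEquivOfLe hle).finrank_eq
  set Z := (centralPart V).comap V.subtype
  have hZ : Module.finrank k Z = Module.finrank k (centralPart V) :=
    (Submodule.comapSubtypeEquivOfLe (fun c hc => (mem_centralPart.1 hc).1)).finrank_eq
  have hmap : Z.map eΦ.toLinearMap = S.dualAnnihilator := by
    ext l
    constructor
    · rintro ⟨c, hc, rfl⟩
      rw [Submodule.mem_dualAnnihilator]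
      intro w hw
      have hw' : (w : R) ∈ commSpan V := hw
      have hcb : ∀ b ∈ V, (c : R) * b = b * c := (mem_centralPart.1 hc).2
      show τ ((c : R) * w) = 0
      refine Submodule.span_induction (p := fun x _ => τ ((c : R) * x) = 0) ?_ ?_ ?_ ?_ hw'
      · rintro x ⟨a, ha, b, hb, rfl⟩
        rw [mul_sub, map_sub, ← mul_assoc, ← mul_assoc, D.symm ((c : R) * a) b, ← mul_assoc,
          ← hcb b hb, sub_self]
      · rw [mul_zero, map_zero]
      · intro x y _ _ h1 h2; rw [mul_add, map_add, h1, h2, add_zero]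
      · intro r x _ h; rw [mul_smul_comm, map_smul, h, smul_zero]
    · intro hl
      obtain ⟨c, rfl⟩ := eΦ.surjective l
      refine ⟨c, mem_centralPart.2 ⟨c.2, fun v hv => ?_⟩, rfl⟩
      rw [Submodule.mem_dualAnnihilator] at hl
      obtain ⟨c1, c2⟩ := (corner_mem_iff hf.idem).1 c.2
      obtain ⟨v1, v2⟩ := (corner_mem_iff hf.idem).1 hv
      refine sub_eq_zero.1 (D.corner_nondeg hf ((corner_mem_iff hf.idem).2 ⟨?_, ?_⟩) fun y hy => ?_)
      · show f * ((c : R) * v - v * c) = _
        rw [mul_sub, ← mul_assoc, ← mul_assoc, c1, v1]; rfl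
      · show ((c : R) * v - v * c) * f = _
        rw [sub_mul, mul_assoc (c : R), v2, mul_assoc v, c2]; rfl
      · have hmem : v * y - y * v ∈ commSpan V := Submodule.subset_span ⟨v, hv, y, hy, rfl⟩
        have h := hl ⟨v * y - y * v, hle hmem⟩ hmem
        change τ ((c : R) * (v * y - y * v)) = 0 at h
        rw [mul_sub, map_sub, sub_eq_zero] at h
        show τ (((c : R) * v - v * c) * y) = 0
        rw [sub_mul, map_sub, mul_assoc, h, mul_assoc v, D.symm v, mul_assoc, sub_self]
  have h1 := Submodule.finrank_map_subtype_eq (R := k) (M := V) Z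
  have h2 : Module.finrank k (Z.map eΦ.toLinearMap) = Module.finrank k Z :=
    (eΦ.submoduleMap Z).finrank_eq.symm
  have h3 := Subspace.finrank_add_finrank_dualAnnihilator_eq S
  rw [← hmap, h2, hS, hZ] at h3
  exact h3.symm

/-- A centre of dimension at most four forces a commutative corner. -/
theorem corner_comm (h4 : Module.finrank k (centralPart (corner k f)) ≤ 4) :
    ∀ x ∈ corner k f, ∀ y ∈ corner k f, x * y = y * x := by
  classical
  set V := corner k f
  set J : Submodule k R := hf.radical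
  have hJV : J ≤ V := fun x hx => (corner_mem_iff hf.idem).2 hx.2
  obtain ⟨C, hCn, hCf, hCmul, hCff⟩ := hf.exists_functional (k := k)
  have hdec : ∀ x ∈ V, x - C x • f ∈ J := fun x hx => by
    obtain ⟨h1, h2⟩ := (corner_mem_iff hf.idem).1 hx
    have h := hCn x
    rw [h1, h2] at h
    exact ⟨h, by rw [mul_sub, h1, mul_smul_comm, hf.idem],
      by rw [sub_mul, h2, smul_mul_assoc, hf.idem]⟩
  have hJmul : ∀ a ∈ J, ∀ x ∈ V, a * x ∈ J ∧ x * a ∈ J := fun a ha x hx => by
    obtain ⟨h1, h2⟩ := (corner_mem_iff hf.idem).1 hx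
    exact ⟨⟨hf.nilpotent_mul_right (k := k) ha.1 ha.2.1 ha.2.2 h1 h2, by rw [← mul_assoc, ha.2.1],
        by rw [mul_assoc, h2]⟩,
      ⟨hf.nilpotent_mul_left (k := k) ha.1 ha.2.1 ha.2.2 h1 h2, by rw [← mul_assoc, h1],
        by rw [mul_assoc, ha.2.2]⟩⟩
  -- commutators are those of the radical
  have hcomm : ∀ x ∈ V, ∀ y ∈ V,
      x * y - y * x = (x - C x • f) * (y - C y • f) - (y - C y • f) * (x - C x • f) := by
    intro x hx y hy
    obtain ⟨x1, x2⟩ := (corner_mem_iff hf.idem).1 hx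
    obtain ⟨y1, y2⟩ := (corner_mem_iff hf.idem).1 hy
    simp only [sub_mul, mul_sub, smul_mul_assoc, mul_smul_comm, x1, x2, y1, y2, hf.idem, smul_sub,
      smul_smul, mul_comm (C x) (C y)]
    abel
  suffices hJc : ∀ a ∈ J, ∀ b ∈ J, a * b = b * a from fun x hx y hy =>
    sub_eq_zero.1 (by rw [hcomm x hx y hy, hJc _ (hdec x hx) _ (hdec y hy), sub_self])
  -- powers of the radical
  obtain ⟨Jp, hJp0, hJps⟩ : ∃ Jp : ℕ → Submodule k R, Jp 0 = J ∧ ∀ n, Jp (n + 1) = J * Jp n :=
    ⟨fun n => Nat.rec J (fun _ T => J * T) n, rfl, fun n => rfl⟩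
  have hmem0 : ∀ a ∈ J, a ∈ Jp 0 := fun a ha => by rw [hJp0]; exact ha
  have hmono : ∀ {A A' B B' : Submodule k R}, A ≤ A' → B ≤ B' → A * B ≤ A' * B' :=
    fun h h' => Submodule.mul_le.2 fun a ha b hb => Submodule.mul_mem_mul (h ha) (h' hb)
  have hJJ : J * J ≤ J := Submodule.mul_le.2 fun a ha b hb => (hJmul a ha b (hJV hb)).1
  have hJple : ∀ n, Jp (n + 1) ≤ Jp n := by
    intro n
    induction n with
    | zero => rw [hJps 0, hJp0]; exact hJJ
    | succ n ih => rw [hJps (n + 1), hJps n]; exact hmono le_rfl (by rw [← hJps n]; exact ih)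
  have hanti : ∀ n m, n ≤ m → Jp m ≤ Jp n := fun n m h => antitone_nat_of_succ_le hJple h
  have hJpJ : ∀ n, Jp n ≤ J := fun n => hJp0 ▸ hanti 0 n (Nat.zero_le n)
  have hmulp : ∀ i j, Jp i * Jp j = Jp (i + j + 1) := by
    intro i
    induction i with
    | zero => intro j; rw [Nat.zero_add, hJp0, hJps]
    | succ i ih =>
      intro j
      rw [hJps i, mul_assoc, ih]
      exact (hJps _).symm.trans (congrArg Jp (by omega))
  -- nilpotency
  have hnak : ∀ X : Submodule k R, X ≤ J → J * X ≤ X → X ≠ ⊥ → ¬ X ≤ J * X := by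
    intro X hXJ hXs hX0 hle
    let Stable : Submodule k R → Prop := fun S => S ≤ X ∧ S ≠ X ∧ ∀ a ∈ J, ∀ s ∈ S, a * s ∈ S
    have hex : ∃ n S, Stable S ∧ Module.finrank k X - Module.finrank k S = n :=
      ⟨_, ⊥, ⟨bot_le, fun h => hX0 h.symm, fun a _ s hs => by
        rw [(Submodule.mem_bot k).1 hs, mul_zero]; exact Submodule.zero_mem _⟩, rfl⟩
    obtain ⟨S, ⟨hSX, hSne, hSst⟩, hSn⟩ := Nat.find_spec hex
    have hmax : ∀ S', Stable S' → S ≤ S' → S = S' := fun S' hS' hle' => by
      by_contra hne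
      have h1 := Submodule.finrank_lt_finrank_of_lt (lt_of_le_of_ne hle' hne)
      have h2 := Submodule.finrank_mono hS'.1
      exact Nat.find_min hex (m := Module.finrank k X - Module.finrank k S')
        (by rw [← hSn]; omega) ⟨S', hS', rfl⟩
    have hsq : J * X ≤ S := by
      refine Submodule.mul_le.2 fun a ha w hw => ?_
      by_cases hwS : w ∈ S
      · exact hSst a ha w hwS
      let S' : Submodule k R := S ⊔ J.map (LinearMap.mulRight k w)
      have hS'X : S' ≤ X := sup_le hSX (by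
        rintro _ ⟨a', ha', rfl⟩; exact hXs (Submodule.mul_mem_mul ha' hw))
      have hwne : w ∉ S' := by
        intro hmem
        obtain ⟨s, hs, _, ⟨a', ha', rfl⟩, hsum⟩ := Submodule.mem_sup.1 hmem
        apply hwS
        simp only [LinearMap.mulRight_apply] at hsum
        have hj : ∀ j : ℕ, w - a' ^ (j + 1) * w ∈ S := by
          intro j
          induction j with
          | zero => rw [zero_add, pow_one]; rwa [show w - a' * w = s by rw [sub_eq_iff_eq_add, hsum]]
          | succ j ih =>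
            have h1 := hSst a' ha' _ ih
            have h2 : w - a' * w ∈ S := by rwa [show w - a' * w = s by rw [sub_eq_iff_eq_add, hsum]]
            have h3 := S.add_mem h2 h1
            rwa [mul_sub, ← mul_assoc, ← pow_succ' a', sub_add_sub_cancel] at h3
        obtain ⟨n, hn⟩ := ha'.1
        have h := hj n
        rwa [pow_succ, hn, zero_mul, zero_mul, sub_zero] at h
      have hst' : Stable S' := ⟨hS'X, fun h => hwne (h ▸ hw), fun a' ha' s hs => by
        obtain ⟨s₁, hs₁, _, ⟨a'', ha'', rfl⟩, rfl⟩ := Submodule.mem_sup.1 hs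
        rw [mul_add]
        refine Submodule.add_mem_sup (hSst a' ha' s₁ hs₁)
          ⟨a' * a'', hJJ (Submodule.mul_mem_mul ha' ha''), ?_⟩
        simp only [LinearMap.mulRight_apply, mul_assoc]⟩
      rw [hmax S' hst' le_sup_left]
      exact Submodule.mem_sup_right ⟨a, ha, rfl⟩
    exact hSne (le_antisymm hSX (hle.trans hsq))
  have hstab : ∀ n, J * Jp n ≤ Jp n := fun n => by rw [← hJps]; exact hJple n
  have hlt : ∀ n, Jp n ≠ ⊥ → Jp (n + 1) < Jp n := fun n hn =>
    lt_of_le_of_ne (hJple n) fun h => hnak (Jp n) (hJpJ n) (hstab n) hn (by rw [← hJps, h])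
  obtain ⟨N, hN⟩ : ∃ N, Jp N = ⊥ := by
    by_contra hcon
    push Not at hcon
    have h : ∀ n, Module.finrank k (Jp n) + n ≤ Module.finrank k (Jp 0) := by
      intro n
      induction n with
      | zero => simp
      | succ n ih => have := Submodule.finrank_lt_finrank_of_lt (hlt n (hcon n)); omega
    have := h (Module.finrank k (Jp 0) + 1)
    omega
  have hzero : ∀ n, Jp n ≤ Jp (n + 1) → Jp n = ⊥ := fun n h => by
    by_contra hne
    exact (hlt n hne).not_ge h
  -- the form does not vanish on nonzero ideals of commutators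
  set S := commSpan V
  have hτS : ∀ x ∈ S, τ x = 0 := fun x hx => by
    refine Submodule.span_induction (p := fun x _ => τ x = 0) ?_ ?_ ?_ ?_ hx
    · rintro x ⟨a, -, b, -, rfl⟩; rw [map_sub, D.symm, sub_self]
    · exact map_zero τ
    · intro x y _ _ h1 h2; rw [map_add, h1, h2, add_zero]
    · intro r x _ h; rw [map_smul, h, smul_zero]
  have hsocle : ∀ u ∈ J, (∀ a ∈ J, u * a = 0) → τ u = 0 → u = 0 := fun u hu hua hτu =>
    D.corner_nondeg hf (hJV hu) fun y hy => by
      rw [show y = C y • f + (y - C y • f) by abel, mul_add, mul_smul_comm, hu.2.2,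
        hua _ (hdec y hy), add_zero, map_smul, hτu, smul_zero]
  have hJ2eq : J * J = Jp 1 := by rw [hJps 0, hJp0]
  have hSJ2 : S ≤ Jp 1 := Submodule.span_le.2 fun x ⟨a, ha, b, hb, hx⟩ => by
    rw [← hx, hcomm a ha b hb]
    exact (Jp 1).sub_mem (hJ2eq.le (Submodule.mul_mem_mul (hdec a ha) (hdec b hb)))
      (hJ2eq.le (Submodule.mul_mem_mul (hdec b hb) (hdec a ha)))
  have hnotS : ∀ n, Jp n ≠ ⊥ → ¬ Jp n ≤ S := by
    intro n hn hle
    obtain ⟨m, hm, hm'⟩ : ∃ m, Jp (n + m) ≠ ⊥ ∧ Jp (n + m + 1) = ⊥ := by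
      by_contra hcon
      push Not at hcon
      have h : ∀ m, Jp (n + m) ≠ ⊥ := fun m => by
        induction m with
        | zero => exact hn
        | succ m ih => exact hcon m ih
      exact h N (le_bot_iff.1 (hN ▸ hanti N (n + N) (by omega)))
    obtain ⟨u, hu, hu0⟩ := (Submodule.ne_bot_iff _).1 hm
    refine hu0 (hsocle u (hJpJ _ hu) (fun a ha => ?_) (hτS u (hle (hanti n (n + m) (by omega) hu))))
    have h := Submodule.mul_mem_mul hu (hmem0 _ ha)
    rwa [hmulp, show n + m + 0 + 1 = n + m + 1 by omega, hm', Submodule.mem_bot] at h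
  -- small cases
  rcases eq_or_ne (Jp 1) ⊥ with h2 | h2
  · intro a ha b hb
    have h1 := Submodule.mul_mem_mul ha hb
    have h1' := Submodule.mul_mem_mul hb ha
    rw [show J * J = Jp 1 by rw [hJps 0, hJp0], h2, Submodule.mem_bot] at h1 h1'
    rw [h1, h1']
  have hSlt : Module.finrank k S < Module.finrank k (Jp 1) :=
    Submodule.finrank_lt_finrank_of_lt (lt_of_le_of_ne hSJ2 fun h => hnotS 1 h2 h.ge)
  have hlt0 : J ≠ ⊥ → Jp 1 < J := fun h => by
    have h' := hlt 0 (hJp0.symm ▸ h)
    rwa [hJp0] at h'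
  have hJne : J ≠ ⊥ := fun h => h2 (le_bot_iff.1 (h ▸ hJpJ 1))
  have hJlt : Module.finrank k (Jp 1) < Module.finrank k J :=
    Submodule.finrank_lt_finrank_of_lt (hlt0 hJne)
  have hVJ : Module.finrank k J + 1 ≤ Module.finrank k V := by
    have hfV : f ∈ V := (corner_mem_iff hf.idem).2 ⟨hf.idem, hf.idem⟩
    exact Submodule.finrank_lt_finrank_of_lt (lt_of_le_of_ne hJV fun h =>
      hf.not_nilpotent (h ▸ hfV : f ∈ J).1)
  have hdim : Module.finrank k V = Module.finrank k S + Module.finrank k (centralPart V) :=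
    D.finrank_corner hf
  -- a generator, or two
  obtain ⟨a, ha, ha2⟩ := SetLike.exists_of_lt (hlt0 hJne)
  by_cases hr1 : J ≤ (k ∙ a) ⊔ Jp 1
  · let P : Submodule k R := Submodule.span k (Set.range fun j : ℕ => a ^ (j + 1))
    have haP : a ∈ P := Submodule.subset_span ⟨0, by simp⟩
    have hPJ : P ≤ J := Submodule.span_le.2 (by
      rintro _ ⟨j, rfl⟩
      induction j with
      | zero => simpa using ha
      | succ j ih => show a ^ (j + 1 + 1) ∈ J; rw [pow_succ]; exact hJJ (Submodule.mul_mem_mul ih ha))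
    have hPP : P * P ≤ P := by
      rw [Submodule.span_mul_span]
      refine Submodule.span_le.2 ?_
      rintro _ ⟨_, ⟨i, rfl⟩, _, ⟨j, rfl⟩, rfl⟩
      exact Submodule.subset_span ⟨i + j + 1, by
        show a ^ (i + j + 1 + 1) = a ^ (i + 1) * a ^ (j + 1)
        rw [← pow_add]; congr 1; omega⟩
    have hind : ∀ n, J ≤ P ⊔ Jp (n + 1) := by
      intro n
      induction n with
      | zero => exact hr1.trans (sup_le_sup_right ((Submodule.span_singleton_le_iff_mem _ _).2 haP) _)
      | succ n ih =>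
        refine hr1.trans (sup_le (((Submodule.span_singleton_le_iff_mem _ _).2 haP).trans le_sup_left) ?_)
        have h : J * J ≤ P ⊔ Jp (n + 1 + 1) := by
          refine (hmono ih ih).trans ?_
          rw [Submodule.sup_mul, Submodule.mul_sup, Submodule.mul_sup]
          refine sup_le (sup_le (hPP.trans le_sup_left) (le_sup_of_le_right ?_))
            (sup_le (le_sup_of_le_right ?_) (le_sup_of_le_right ?_))
          · exact (hmono hPJ le_rfl).trans (hJps (n + 1)).ge
          · exact ((hmono le_rfl (hPJ.trans hJp0.ge)).trans (hmulp (n + 1) 0).le).trans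
              (hanti (n + 1 + 1) (n + 1 + 0 + 1) (by omega))
          · exact (hmulp (n + 1) (n + 1)).le.trans
              (hanti (n + 1 + 1) (n + 1 + (n + 1) + 1) (by omega))
        exact hJ2eq.ge.trans h
    have hJP : J ≤ P := by
      refine (hind N).trans (sup_le le_rfl ?_)
      rw [le_bot_iff.1 ((hJple N).trans hN.le)]
      exact bot_le
    intro x hx y hy
    have key : ∀ v ∈ P, ∀ w ∈ P, v * w = w * v := by
      intro v hv w hw
      have h1 : ∀ j : ℕ, Commute (a ^ (j + 1)) w := fun j => by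
        refine Submodule.span_induction (p := fun w _ => Commute (a ^ (j + 1)) w) ?_ ?_ ?_ ?_ hw
        · rintro _ ⟨i, rfl⟩; exact Commute.pow_pow (Commute.refl a) _ _
        · exact Commute.zero_right _
        · intro u v _ _ h1 h2; exact h1.add_right h2
        · intro r u _ h; exact h.smul_right r
      refine Submodule.span_induction (p := fun v _ => Commute v w) ?_ ?_ ?_ ?_ hv
      · rintro _ ⟨i, rfl⟩; exact h1 i
      · exact Commute.zero_left _
      · intro u v _ _ h1 h2; exact h1.add_left h2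
      · intro r u _ h; exact h.smul_left r
    exact key x (hJP hx) y (hJP hy)
  obtain ⟨b, hb, hb2⟩ := SetLike.not_le_iff_exists.1 hr1
  set U := (k ∙ a) ⊔ Jp 1
  have hU : Module.finrank k (Jp 1) < Module.finrank k U :=
    Submodule.finrank_lt_finrank_of_lt (lt_of_le_of_ne le_sup_right fun h => ha2 (h ▸
      Submodule.mem_sup_left (Submodule.mem_span_singleton_self a)))
  have hUV : U ≤ J := sup_le ((Submodule.span_singleton_le_iff_mem _ _).2 ha) (hJpJ 1)
  have hU2 : Module.finrank k U < Module.finrank k ↥((k ∙ b) ⊔ U) :=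
    Submodule.finrank_lt_finrank_of_lt (lt_of_le_of_ne le_sup_right fun h => hb2 (h ▸
      Submodule.mem_sup_left (Submodule.mem_span_singleton_self b)))
  have hWJ : (k ∙ b) ⊔ U ≤ J := sup_le ((Submodule.span_singleton_le_iff_mem _ _).2 hb) hUV
  have hW := Submodule.finrank_mono hWJ
  rcases eq_or_ne (Jp 2) ⊥ with h3 | h3
  · -- the square of the radical annihilates
    have hann : ∀ u ∈ Jp 1, τ u = 0 → u = 0 := fun u hu hτu =>
      hsocle u (hJpJ 1 hu) (fun c hc => by
        have h := Submodule.mul_mem_mul hu (hmem0 _ hc)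
        rwa [hmulp, h3, Submodule.mem_bot] at h) hτu
    intro x hx y hy
    refine sub_eq_zero.1 (hann _ ?_ ?_)
    · exact (Jp 1).sub_mem (hJ2eq.le (Submodule.mul_mem_mul hx hy))
        (hJ2eq.le (Submodule.mul_mem_mul hy hx))
    · rw [map_sub, D.symm, sub_self]
  -- the square of the radical is one-dimensional modulo its cube
  have hJ2 : ∃ w, Jp 1 ≤ (k ∙ w) ⊔ Jp 2 := by
    have hmore : S < S ⊔ Jp 2 := lt_of_le_of_ne le_sup_left fun h => hnotS 2 h3 (h ▸ le_sup_right)
    have hall : S ⊔ Jp 2 = Jp 1 := by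
      refine Submodule.eq_of_le_of_finrank_le (sup_le hSJ2 (hJple 1)) ?_
      have := Submodule.finrank_lt_finrank_of_lt hmore
      omega
    have hJeq : (k ∙ b) ⊔ U = J := Submodule.eq_of_le_of_finrank_le hWJ (by omega)
    refine ⟨a * b - b * a, hall.symm.le.trans (sup_le ?_ le_sup_right)⟩
    refine Submodule.span_le.2 fun z ⟨x, hx, y, hy, hz⟩ => ?_
    rw [← hz, hcomm x hx y hy]
    have hrep : ∀ x ∈ J, ∃ s t : k, ∃ u ∈ Jp 1, x = s • a + t • b + u := fun x hx => by
      rw [← hJeq] at hx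
      obtain ⟨_, h1, _, h23, rfl⟩ := Submodule.mem_sup.1 hx
      obtain ⟨_, h2', u, hu, rfl⟩ := Submodule.mem_sup.1 h23
      obtain ⟨t, rfl⟩ := Submodule.mem_span_singleton.1 h1
      obtain ⟨s, rfl⟩ := Submodule.mem_span_singleton.1 h2'
      exact ⟨s, t, u, hu, by abel⟩
    obtain ⟨s, t, u, hu, hxe⟩ := hrep _ (hdec x hx)
    obtain ⟨s', t', u', hu', hye⟩ := hrep _ (hdec y hy)
    set x' := x - C x • f
    set y' := y - C y • f
    have e1 : x' * y' - y' * x' = (s * t' - t * s') • (a * b - b * a) +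
        ((s • a + t • b) * u' - u' * (s • a + t • b) + (u * y' - y' * u)) := by
      rw [hxe, hye]
      simp only [add_mul, mul_add, smul_mul_assoc, mul_smul_comm, smul_sub, sub_smul, smul_smul,
        smul_add]
      rw [mul_comm s' t, mul_comm t' s, mul_comm s' s, mul_comm t' t]
      abel
    rw [e1]
    refine Submodule.add_mem_sup (Submodule.smul_mem _ _ (Submodule.mem_span_singleton_self _)) ?_
    have hst : s • a + t • b ∈ J := J.add_mem (J.smul_mem _ ha) (J.smul_mem _ hb)
    refine (Jp 2).add_mem ((Jp 2).sub_mem ?_ ?_) ((Jp 2).sub_mem ?_ ?_)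
    · exact (hmulp 0 1).le (Submodule.mul_mem_mul (hmem0 _ hst) hu')
    · exact (hmulp 1 0).le (Submodule.mul_mem_mul hu' (hmem0 _ hst))
    · exact (hmulp 1 0).le (Submodule.mul_mem_mul hu (hmem0 _ (hdec y hy)))
    · exact (hmulp 0 1).le (Submodule.mul_mem_mul (hmem0 _ (hdec y hy)) hu)
  obtain ⟨w, hw⟩ := hJ2
  have hmod : ∀ i j, ∀ u ∈ Jp i, ∀ v ∈ Jp j, u * v ∈ Jp (i + j + 1) := fun i j u hu v hv =>
    (hmulp i j).le (Submodule.mul_mem_mul hu hv)
  have hco : ∀ u ∈ Jp 1, ∃ c : k, u - c • w ∈ Jp 2 := fun u hu => by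
    obtain ⟨_, h1, v, hv, rfl⟩ := Submodule.mem_sup.1 (hw hu)
    obtain ⟨c, rfl⟩ := Submodule.mem_span_singleton.1 h1
    exact ⟨c, by simpa using hv⟩
  have hexch : ∀ u ∈ Jp 1, u ∉ Jp 2 → Jp 1 ≤ (k ∙ u) ⊔ Jp 2 := fun u hu hu2 => by
    obtain ⟨c, hc⟩ := hco u hu
    have hc0 : c ≠ 0 := fun h => hu2 (by simpa [h] using hc)
    refine hw.trans (sup_le ((Submodule.span_singleton_le_iff_mem _ _).2 ?_) le_sup_right)
    rw [show w = c⁻¹ • u + -(c⁻¹ • (u - c • w)) by
      rw [smul_sub, smul_smul, inv_mul_cancel₀ hc0, one_smul]; abel]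
    exact Submodule.add_mem_sup (Submodule.smul_mem _ _ (Submodule.mem_span_singleton_self _))
      ((Jp 2).neg_mem ((Jp 2).smul_mem _ hc))
  obtain ⟨x, hx, hxx⟩ : ∃ x ∈ J, x * x ∉ Jp 2 := by
    by_contra hcon
    push Not at hcon
    have hanti' : ∀ u ∈ J, ∀ v ∈ J, u * v + v * u ∈ Jp 2 := fun u hu v hv => by
      have h1 := (Jp 2).sub_mem ((Jp 2).sub_mem (hcon _ (J.add_mem hu hv)) (hcon u hu)) (hcon v hv)
      rwa [show (u + v) * (u + v) - u * u - v * v = u * v + v * u by
        rw [add_mul, mul_add, mul_add]; abel] at h1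
    obtain ⟨u, hu, v, hv, huv⟩ : ∃ u ∈ J, ∃ v ∈ J, u * v ∉ Jp 2 := by
      by_contra hcon'
      push Not at hcon'
      exact h3 (le_bot_iff.1 ((hJple 1).trans (hzero 1 (hJ2eq.ge.trans (Submodule.mul_le.2 hcon'))).le))
    have hspan := hexch _ (hmod 0 0 u (hmem0 u hu) v (hmem0 v hv)) huv
    apply h3
    refine hzero 2 ?_
    rw [hJps 1]
    refine (hmono le_rfl hspan).trans ?_
    rw [Submodule.mul_sup]
    refine sup_le ?_ (hJps 2).ge
    refine Submodule.mul_le.2 fun c hc z hz => ?_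
    obtain ⟨r, rfl⟩ := Submodule.mem_span_singleton.1 hz
    rw [mul_smul_comm]
    refine (Jp 3).smul_mem _ ?_
    have e1 : c * (u * v) = (c * u + u * c) * v - u * (c * v + v * c) + (u * v + v * u) * c -
        v * (u * c + c * u) + (v * c + c * v) * u - c * (v * u + u * v) + c * (u * v) := by
      simp only [add_mul, mul_add, mul_assoc]; abel
    -- moving `c` across: `c u v = u v c` modulo the next power, and also its negative
    have k1 : c * (u * v) + u * (c * v) ∈ Jp 3 := by
      rw [← mul_assoc, ← mul_assoc, ← add_mul]; exact hmod 2 0 _ (hanti' c hc u hu) v (hmem0 v hv)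
    by_cases huu : u * c ∈ Jp 2
    · have h1 : u * (c * v) ∈ Jp 3 := by rw [← mul_assoc]; exact hmod 2 0 _ huu v (hmem0 v hv)
      simpa using (Jp 3).sub_mem k1 h1
    · -- `J² = k uc + J³`, so `uv` is a multiple of `uc`, and `c (u c)` dies
      have hsp := hexch _ (hmod 0 0 u (hmem0 u hu) c (hmem0 c hc)) huu
      obtain ⟨_, h1, t, ht, htsum⟩ := Submodule.mem_sup.1 (hsp (hmod 0 0 u (hmem0 u hu) v (hmem0 v hv)))
      obtain ⟨q, rfl⟩ := Submodule.mem_span_singleton.1 h1
      rw [← htsum, mul_add, mul_smul_comm]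
      refine (Jp 3).add_mem ((Jp 3).smul_mem _ ?_) (hmod 0 2 c (hmem0 c hc) t ht)
      have h4 : c * (u * c) + u * (c * c) ∈ Jp 3 := by
        rw [← mul_assoc, ← mul_assoc, ← add_mul]; exact hmod 2 0 _ (hanti' c hc u hu) c (hmem0 c hc)
      simpa using (Jp 3).sub_mem h4 (hmod 0 2 u (hmem0 u hu) _ (hcon c hc))
  -- powers of `x`
  have hxspan := hexch _ (hmod 0 0 x (hmem0 x hx) x (hmem0 x hx)) hxx
  have hxpow : ∀ i, x ^ (i + 1) ∈ Jp i := by
    intro i
    induction i with
    | zero => simpa using hmem0 x hx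
    | succ i ih => rw [pow_succ]; exact hmod i 0 _ ih x (hmem0 x hx)
  have hlayer : ∀ i, Jp (i + 1) ≤ (k ∙ x ^ (i + 2)) ⊔ Jp (i + 2) := by
    intro i
    induction i with
    | zero => simpa [pow_two] using hxspan
    | succ i ih =>
      rw [hJps (i + 1)]
      refine (hmono le_rfl ih).trans ?_
      rw [Submodule.mul_sup]
      refine sup_le ?_ (le_sup_of_le_right (hJps (i + 2)).ge)
      refine Submodule.mul_le.2 fun c hc z hz => ?_
      obtain ⟨r, rfl⟩ := Submodule.mem_span_singleton.1 hz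
      rw [mul_smul_comm]
      refine Submodule.smul_mem _ _ ?_
      obtain ⟨_, h1, t, ht, htsum⟩ := Submodule.mem_sup.1 (hxspan (hmod 0 0 c (hmem0 c hc) x (hmem0 x hx)))
      obtain ⟨q, rfl⟩ := Submodule.mem_span_singleton.1 h1
      rw [show c * x ^ (i + 2) = c * x * x ^ (i + 1) by rw [mul_assoc, ← pow_succ'], ← htsum, add_mul,
        smul_mul_assoc]
      refine Submodule.add_mem_sup (Submodule.mem_span_singleton.2 ⟨q, ?_⟩) ?_
      · rw [show i + 1 + 2 = i + 1 + 1 + 1 from rfl, pow_succ', pow_succ' x (i + 1), ← mul_assoc]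
      · exact hanti _ _ (by omega) (hmod 2 i t ht _ (hxpow i))
  -- `J²` consists of polynomials in `x`
  have hQc : ∀ i, ∀ q ∈ Jp (i + 1), x * q = q * x := by
    suffices h : ∀ m i, N ≤ i + m → ∀ q ∈ Jp (i + 1), x * q = q * x from fun i => h N i (by omega)
    intro m
    induction m with
    | zero =>
      intro i hi q hq
      have h0 : Jp (i + 1) = ⊥ := le_bot_iff.1 (hN ▸ hanti N (i + 1) (by omega))
      rw [h0, Submodule.mem_bot] at hq
      rw [hq, mul_zero, zero_mul]
    | succ m ih =>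
      intro i hi q hq
      obtain ⟨_, h1, t, ht, rfl⟩ := Submodule.mem_sup.1 (hlayer i hq)
      obtain ⟨r, rfl⟩ := Submodule.mem_span_singleton.1 h1
      rw [mul_add, add_mul, ih (i + 1) (by omega) t ht, mul_smul_comm, smul_mul_assoc, ← pow_succ',
        ← pow_succ]
  have hkill : ∀ i, ∀ q ∈ Jp (i + 1), x * q = 0 → ∀ c ∈ J, q * c = 0 := by
    suffices h : ∀ m i, N ≤ i + m → ∀ q ∈ Jp (i + 1), x * q = 0 → ∀ c ∈ J, q * c = 0 from
      fun i => h N i (by omega)
    intro m
    induction m with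
    | zero =>
      intro i hi q hq _ c _
      have h0 : Jp (i + 1) = ⊥ := le_bot_iff.1 (hN ▸ hanti N (i + 1) (by omega))
      rw [h0, Submodule.mem_bot] at hq
      rw [hq, zero_mul]
    | succ m ih =>
      intro i hi q hq hxq c hc
      obtain ⟨_, h1, t, ht, rfl⟩ := Submodule.mem_sup.1 (hlayer i hq)
      obtain ⟨r, rfl⟩ := Submodule.mem_span_singleton.1 h1
      by_cases hr : r = 0
      · rw [hr, zero_smul, zero_add] at hxq ⊢
        exact ih (i + 1) (by omega) t ht hxq c hc
      · have hmem : x ^ (i + 3) ∈ Jp (i + 3) := by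
          rw [mul_add, mul_smul_comm, ← pow_succ', add_eq_zero_iff_eq_neg] at hxq
          have h' := hmod 0 (i + 2) x (hmem0 x hx) t ht
          rw [show 0 + (i + 2) + 1 = i + 3 by omega] at h'
          have h'' := (Jp (i + 3)).smul_mem r⁻¹ ((Jp (i + 3)).neg_mem h')
          rwa [← hxq, smul_smul, inv_mul_cancel₀ hr, one_smul] at h''
        have h0 : Jp (i + 2) = ⊥ := hzero (i + 2) ((hlayer (i + 1)).trans (sup_le
          ((Submodule.span_singleton_le_iff_mem _ _).2 hmem) le_rfl))
        have h' := hmod (i + 1) 0 _ hq c (hmem0 c hc)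
        rwa [show i + 1 + 0 + 1 = i + 2 by omega, h0, Submodule.mem_bot] at h'
  have hfin : ∀ u v, u ∈ J → v ∈ J → x * (u * v - v * u) = 0 → u * v = v * u := by
    intro u v hu hv h
    have hmem : u * v - v * u ∈ Jp 1 := (Jp 1).sub_mem (hmod 0 0 u (hmem0 u hu) v (hmem0 v hv)) (hmod 0 0 v (hmem0 v hv) u (hmem0 u hu))
    exact sub_eq_zero.1 (hsocle _ (hJpJ 1 hmem) (hkill 0 _ hmem h)
      (by rw [map_sub, D.symm, sub_self]))
  have hxc : ∀ y ∈ J, x * y = y * x := by
    intro y hy
    refine hfin x y hx hy ?_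
    rw [mul_sub, hQc 0 (x * y) (hmod 0 0 x (hmem0 x hx) y (hmem0 y hy)), mul_assoc, sub_self]
  have hJ2c : ∀ i, ∀ q ∈ Jp (i + 1), ∀ y ∈ J, q * y = y * q := by
    suffices h : ∀ m i, N ≤ i + m → ∀ q ∈ Jp (i + 1), ∀ y ∈ J, q * y = y * q from
      fun i => h N i (by omega)
    intro m
    induction m with
    | zero =>
      intro i hi q hq y _
      have h0 : Jp (i + 1) = ⊥ := le_bot_iff.1 (hN ▸ hanti N (i + 1) (by omega))
      rw [h0, Submodule.mem_bot] at hq
      rw [hq, mul_zero, zero_mul]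
    | succ m ih =>
      intro i hi q hq y hy
      obtain ⟨_, h1, t, ht, rfl⟩ := Submodule.mem_sup.1 (hlayer i hq)
      obtain ⟨r, rfl⟩ := Submodule.mem_span_singleton.1 h1
      rw [add_mul, mul_add, ih (i + 1) (by omega) t ht y hy, smul_mul_assoc, mul_smul_comm,
        (Commute.pow_left (hxc y hy) (i + 2)).eq]
  intro y hy z hz
  refine hfin y z hy hz ?_
  rw [mul_sub, sub_eq_zero, ← mul_assoc, ← mul_assoc,
    hJ2c 0 _ (hmod 0 0 x (hmem0 x hx) y (hmem0 y hy)) z hz, ← mul_assoc z x y, ← hxc z hz]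

end SymBlk

end CfsgLib.TwoChars
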