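import Cfsg.Agent.Lib.TwoChars.Center
import Cfsg.Agent.Lib.Blk7.CardPowDefect
import Cfsg.Agent.Lib.Blk7.DefectOneTwo
import Cfsg.Agent.Lib.Blocks12.RankOne

/-!
# Blocks with two characters have defect groups of order two
-/

set_option autoImplicit false
set_option linter.unusedSectionVars false
set_option linter.style.haveILetI false

namespace CfsgLib.TwoChars

open Cfsg CfsgLib.Characters CfsgLib.Blocks CfsgLib.Contribution
open scoped Classical

universe u

variable {G : Type u} [Group G] [Fintype G] {p : ℕ} [hp : Fact p.Prime] {M : Ideal AlgInt}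

theorem eq_of_sq_add_sq : ∀ (m a b : ℕ), a ^ 2 + b ^ 2 = 2 ^ (2 * m + 1) → a = b := by
  intro m
  induction m with
  | zero =>
    intro a b h
    norm_num at h
    have ha : a ≤ 1 := by nlinarith
    have hb : b ≤ 1 := by nlinarith
    interval_cases a <;> interval_cases b <;> simp_all
  | succ m ih =>
    intro a b h
    have hN : (2 : ℕ) ^ (2 * (m + 1) + 1) = 4 * 2 ^ (2 * m + 1) := by
      rw [show 2 * (m + 1) + 1 = 2 * m + 1 + 2 by ring, pow_add]; ring
    rw [hN] at h
    obtain ⟨i, rfl | rfl⟩ := Nat.even_or_odd' a <;> obtain ⟨j, rfl | rfl⟩ := Nat.even_or_odd' b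
    · rw [ih i j (by linarith [show (2 * i) ^ 2 + (2 * j) ^ 2 = 4 * (i ^ 2 + j ^ 2) by ring])]
    all_goals
      exfalso
      ring_nf at h
      omega

theorem not_sq_mul_odd_pow {q d F n : ℕ} (hn : n ≠ 0) (h : q ^ d * F ^ 2 = 2 * n ^ 2)
    (hq : q.Prime) : q = 2 ∧ Odd d := by
  have hF : F ≠ 0 := fun h0 => by
    rw [h0] at h
    simp [hn] at h
  have h1 := congrArg (fun t => t.factorization 2) h
  simp only [Nat.factorization_mul (pow_ne_zero d hq.ne_zero) (pow_ne_zero 2 hF),
    Nat.factorization_mul two_ne_zero (pow_ne_zero 2 hn), Finsupp.add_apply, Nat.factorization_pow,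
    Finsupp.smul_apply, smul_eq_mul, Nat.prime_two.factorization_self] at h1
  by_cases hq2 : q = 2
  · subst hq2
    rw [Nat.prime_two.factorization_self] at h1
    refine ⟨rfl, Nat.odd_iff.2 ?_⟩
    omega
  · exfalso
    rw [hq.factorization, Finsupp.single_apply, if_neg hq2] at h1
    omega

/-- A block with two characters has defect one and `p = 2`. -/
theorem defect_of_card_two (hM : IsPModular p M) {B : Set (IrrCharacter G)} (hB : IsPBlock M B)
    (h2 : Nat.card B = 2) : p = 2 ∧ blockDefect p B = 1 := by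
  have := hM.2.1
  haveI : Fintype (ConjClasses G) := Fintype.ofFinite _
  have hd : 1 ≤ blockDefect p B := by
    by_contra hd
    have h := card_bound hM hB
    rw [show blockDefect p B = 0 by omega, Nat.mul_zero, pow_zero, h2] at h
    omega
  -- one Brauer character
  have hl : blockRank p B = 1 := by
    have h1 := CyclicDefectBound.one_le_blockRank hM hB
    have h3 := RankOrth.blockRank_le (p := p) B
    rw [h2] at h3
    by_contra hne
    obtain ⟨y, C, b, rfl, hy, hind, -⟩ := CardPowDefect.exists_major hM hB hd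
    have hcount := LocalCount.card_mul_eq_sum_weight hM hB
    rw [h2, show blockRank p B = 2 by omega, sub_self, mul_zero] at hcount
    have hyS : y ∈ LocalCount.singularPElts p G := LocalCount.mem_singularPElts.2
      ⟨⟨1, by rw [hy, pow_one]⟩, fun h => hp.out.ne_one (by rw [← hy, h, orderOf_one])⟩
    have hnn : ∀ D : Subgroup G, 0 ≤ LocalCount.weight p M B D := fun D =>
      mul_nonneg (Nat.cast_nonneg _) (Nat.cast_nonneg _)
    have h0 := (Finset.sum_eq_zero_iff_of_nonneg fun x _ => hnn _).1 hcount.symm y hyS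
    have hfin : {e : Set (IrrCharacter (Subgroup.centralizer ({y} : Set G))) |
        IsInducedBlock M (Subgroup.centralizer ({y} : Set G)) e B}.Finite := Set.toFinite _
    have hpos : 1 ≤ LocalCount.localRank p M (Subgroup.centralizer ({y} : Set G)) B := by
      rw [LocalCount.localRank, finsum_mem_eq_finite_toFinset_sum _ hfin]
      exact (CyclicDefectBound.one_le_blockRank hM hind.1).trans
        (Finset.single_le_sum (f := fun e => blockRank p e) (fun _ _ => Nat.zero_le _)
          (hfin.mem_toFinset.2 hind))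
    have hC : 0 < Nat.card (Subgroup.centralizer ({y} : Set G)) := Nat.card_pos
    rw [LocalCount.weight, mul_eq_zero] at h0
    omega
  obtain ⟨f, d, hval, hsq⟩ := rank_one_structure hM hB hl
  -- the dimension of the block algebra
  have := BPStar.isAlgClosed_res hM
  obtain ⟨z, τ, hS⟩ := exists_symData hM hB h2
  obtain ⟨n, hn⟩ := hS.finrank_eq
  have hLR : LinearMap.mulLeft (BrauerPairs.ResK M) (BrauerPairs.eG hM B) =
      LinearMap.mulRight (BrauerPairs.ResK M) (BrauerPairs.eG hM B) :=
    LinearMap.ext fun x => hS.central x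
  rw [hLR, ModRep.finrank_block hM hB, finsum_block_eq] at hn
  -- degrees
  set F : ℤ := ∑ ψ ∈ members B, f ψ * (charDegree (ψ : G → ℂ) : ℤ)
  have hdeg : ∀ χ ∈ B, (charDegree (χ : G → ℂ) : ℤ) = (d χ : ℤ) * F := by
    intro χ hχ
    have h := hval χ hχ 1 (by rw [IsPRegular, orderOf_one]; exact hM.1.not_dvd_one)
    rw [(CfsgLib.ClassCount.degree_eq χ).1] at h
    apply Int.cast_injective (α := ℂ)
    simp only [F, Int.cast_mul, Int.cast_natCast, Int.cast_sum]
    rw [h]
    congr 1
    exact Finset.sum_congr rfl fun ψ _ => by rw [(CfsgLib.ClassCount.degree_eq ψ).1]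
  have hdegN : ∀ χ ∈ members B, charDegree (χ : G → ℂ) = d χ * F.natAbs := fun χ hχ => by
    have h := congrArg Int.natAbs (hdeg χ (mem_members.1 hχ))
    simpa [Int.natAbs_mul] using h
  rw [Finset.sum_congr rfl fun χ hχ => by rw [hdegN χ hχ, mul_pow], ← Finset.sum_mul, hsq] at hn
  obtain ⟨χ, hχ, h0, -⟩ := exists_height_zero hM hB
  have hn0 : n ≠ 0 := by
    rintro rfl
    simp only [ne_eq, OfNat.ofNat_ne_zero, not_false_eq_true, zero_pow, mul_zero, mul_eq_zero,
      pow_eq_zero_iff] at hn
    have hpos := (CfsgLib.ClassCount.degree_eq χ).2.2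
    rw [hdegN χ (mem_members.2 hχ)] at hpos
    rcases hn with h | h
    · exact pow_ne_zero _ hp.out.ne_zero h
    · rw [h, mul_zero] at hpos; exact lt_irrefl 0 hpos
  obtain ⟨rfl, m, hm⟩ := not_sq_mul_odd_pow hn0 hn hp.out
  refine ⟨rfl, ?_⟩
  -- equal degrees
  obtain ⟨ψ, hψB, hψne⟩ : ∃ ψ ∈ B, ψ ≠ χ := by
    by_contra hcon
    push Not at hcon
    rw [show B = {χ} from Set.eq_singleton_iff_unique_mem.2 ⟨hχ, hcon⟩] at h2
    simp at h2
  have hmem : members B = {χ, ψ} := by
    refine (Finset.eq_of_subset_of_card_le ?_ ?_).symm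
    · intro φ hφ
      simp only [Finset.mem_insert, Finset.mem_singleton] at hφ
      rcases hφ with rfl | rfl
      · exact mem_members.2 hχ
      · exact mem_members.2 hψB
    · rw [Finset.card_pair hψne.symm, ← h2, Nat.card_eq_fintype_card, ← Set.toFinset_card]
      exact Finset.card_le_card fun φ hφ => Set.mem_toFinset.2 (mem_members.1 hφ)
  rw [hmem, Finset.sum_pair hψne.symm, hm] at hsq
  have heq := eq_of_sq_add_sq m _ _ hsq
  have hreg : ∀ x : G, ¬ 2 ∣ orderOf x → (ψ : G → ℂ) x = (χ : G → ℂ) x := fun x hx => by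
    rw [hval χ hχ x hx, hval ψ hψB x hx, heq]
  -- the contributions
  set c := contribInt 2 B χ χ with hc
  have hcψ : contribInt 2 B χ ψ = c := by
    have hr : Contribution.regSum 2 (χ : G → ℂ) (ψ : G → ℂ) =
        Contribution.regSum 2 (χ : G → ℂ) (χ : G → ℂ) :=
      Finset.sum_congr rfl fun x hx => by rw [hreg x (Finset.mem_filter.1 hx).2]
    simp only [hc, contribInt, contrib, hr]
  have hrow := contribInt_row hM hB hχ
  rw [hmem, Finset.sum_pair hψne.symm, hcψ, ← hc, ← two_mul] at hrow
  have hodd : ¬ (2 : ℤ) ∣ c := by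
    intro h
    have h1 : MemLocalIdeal M (c : ℂ) := (memLocalIdeal_intCast_iff hM _).2 (by exact_mod_cast h)
    rw [hc, contribInt_cast hM hB χ hχ, contrib_eq hM hB χ hχ] at h1
    exact BlockCover.not_memLocalIdeal_mul hM (natCast_mem (lRing hM) _) (tfac_mem hM _ _)
      (fun h' => h0 ((memLocalIdeal_natCast_iff hM _).1 h')) (tfac_unit hM hB hχ h0 hχ) h1
  rw [hm] at hrow ⊢
  have hc0 : c ≠ 0 := fun h => hodd (h ▸ dvd_zero 2)
  have h5 : c = 2 ^ (2 * m) := by
    apply mul_left_cancel₀ (mul_ne_zero two_ne_zero hc0)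
    calc 2 * c * c = 2 * c ^ 2 := by ring
      _ = _ := by rw [hrow]; push_cast; ring
  rcases Nat.eq_zero_or_pos m with rfl | hm0
  · norm_num
  · exact absurd (h5 ▸ dvd_pow_self (2 : ℤ) (by omega)) hodd

end CfsgLib.TwoChars
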