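import Cfsg.Agent.Lib.TwoChars.Local

/-!
# A block with one simple module as a matrix algebra over its corner

If `e` lies in `R f R`, the centre of the block is that of the corner, and the block and the
projective `R f` are free over the corner.
-/

set_option autoImplicit false
set_option linter.unusedSectionVars false
set_option maxSynthPendingDepth 3
set_option maxHeartbeats 1000000

namespace CfsgLib.TwoChars

variable {k : Type*} [Field k] {R : Type*} [Ring R] [Algebra k R]

theorem sum_eq_of_mem {e f : R} (h : e ∈ SymData.twoSided (k := k) f) :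
    ∃ (n : ℕ) (x y : Fin n → R), ∑ i, x i * f * y i = e := by
  obtain ⟨c, hc⟩ := (Finsupp.mem_span_range_iff_exists_finsupp).1 h
  classical
  obtain ⟨n, σ⟩ := Finite.exists_equiv_fin c.support
  refine ⟨n, fun i => c ((σ.some.symm i).1) • ((σ.some.symm i).1).1,
    fun i => ((σ.some.symm i).1).2, ?_⟩
  rw [← hc, Finsupp.sum, ← Finset.sum_coe_sort c.support]
  exact Fintype.sum_equiv σ.some.symm _ _ fun i => by simp [smul_mul_assoc]

/-- The centre of the block of `e`. -/
def blockCentre (k : Type*) [Field k] {R : Type*} [Ring R] [Algebra k R] (e : R) : Submodule k R where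
  carrier := {c | e * c = c ∧ ∀ x, c * x = x * c}
  zero_mem' := ⟨mul_zero _, fun x => by rw [zero_mul, mul_zero]⟩
  add_mem' := fun {a b} ha hb => ⟨by rw [mul_add, ha.1, hb.1],
    fun x => by rw [add_mul, mul_add, ha.2 x, hb.2 x]⟩
  smul_mem' := fun r {a} ha => ⟨by rw [mul_smul_comm, ha.1],
    fun x => by rw [smul_mul_assoc, mul_smul_comm, ha.2 x]⟩

theorem mem_blockCentre {e c : R} : c ∈ blockCentre k e ↔ e * c = c ∧ ∀ x, c * x = x * c := Iff.rfl

namespace SymBlk

variable [IsAlgClosed k] [FiniteDimensional k R] {e f : R} {τ : R →ₗ[k] k} (D : SymBlk e τ)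
  (hf : IsMinIdem e f) (hfull : e ∈ SymData.twoSided (k := k) f)
include D hf hfull

theorem eq_zero_of_left_kill {a : R} (ha : e * a = a) (h : ∀ x, a * x * f = 0) : a = 0 := by
  obtain ⟨n, X, Y, hXY⟩ := sum_eq_of_mem hfull
  calc a = a * e := by rw [← D.central, ha]
    _ = ∑ i, a * X i * f * Y i := by simp only [← hXY, Finset.mul_sum, mul_assoc]
    _ = 0 := Finset.sum_eq_zero fun i _ => by rw [h, zero_mul]

theorem eq_zero_of_right_kill {a : R} (ha : e * a = a) (h : ∀ x, f * x * a = 0) : a = 0 := by
  obtain ⟨n, X, Y, hXY⟩ := sum_eq_of_mem hfull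
  calc a = e * a := ha.symm
    _ = ∑ i, X i * (f * Y i * a) := by simp only [← hXY, Finset.sum_mul, mul_assoc]
    _ = 0 := Finset.sum_eq_zero fun i _ => by rw [h, mul_zero]

/-- The centre of the block maps onto that of the corner. -/
theorem finrank_centralPart :
    Module.finrank k (centralPart (corner k f)) = Module.finrank k (blockCentre k e) := by
  have hfe : f * e = f := by rw [← D.central, hf.le]
  have hmap : ∀ c ∈ blockCentre k e, LinearMap.mulRight k f c ∈ centralPart (corner k f) := by
    intro c hc
    obtain ⟨-, hc2⟩ := mem_blockCentre.1 hc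
    refine mem_centralPart.2 ⟨(corner_mem_iff hf.idem).2 ⟨?_, ?_⟩, fun v hv => ?_⟩
    · rw [LinearMap.mulRight_apply, ← mul_assoc, ← hc2, mul_assoc, hf.idem]
    · rw [LinearMap.mulRight_apply, mul_assoc, hf.idem]
    · obtain ⟨v1, v2⟩ := (corner_mem_iff hf.idem).1 hv
      rw [LinearMap.mulRight_apply, mul_assoc, v1, ← mul_assoc, ← hc2, mul_assoc, v2]
  refine (LinearEquiv.ofBijective ((LinearMap.mulRight k f).restrict hmap) ⟨?_, ?_⟩).finrank_eq.symm
  · refine (injective_iff_map_eq_zero _).2 fun c hc => Subtype.ext ?_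
    have h0 : (c : R) * f = 0 := congrArg Subtype.val hc
    obtain ⟨hc1, hc2⟩ := mem_blockCentre.1 c.2
    refine D.eq_zero_of_left_kill hf hfull hc1 fun x => ?_
    rw [hc2, mul_assoc, h0, mul_zero]
  · rintro ⟨c₀, hc₀⟩
    obtain ⟨hc₀V, hc₀c⟩ := mem_centralPart.1 hc₀
    obtain ⟨h1, h2⟩ := (corner_mem_iff hf.idem).1 hc₀V
    obtain ⟨n, X, Y, hXY⟩ := sum_eq_of_mem hfull
    set c₁ := e * ∑ i, X i * c₀ * Y i with hc₁
    have hcomm : ∀ a, c₀ * (f * a * f) = f * a * f * c₀ := fun a =>
      hc₀c _ ((corner_mem_iff hf.idem).2 ⟨hf.left, hf.right⟩)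
    have hec₀ : e * c₀ = c₀ := D.corner_e hf hc₀V
    have key : ∀ a b, c₁ * (a * f * b) = a * c₀ * b ∧ a * f * b * c₁ = a * c₀ * b := by
      intro a b
      have hea : e * (a * c₀ * b) = a * c₀ * b := by
        rw [← mul_assoc, ← mul_assoc, D.central, mul_assoc a e, hec₀]
      constructor
      · rw [hc₁, mul_assoc, Finset.sum_mul]
        have h : ∀ i, X i * c₀ * Y i * (a * f * b) = X i * f * Y i * (a * c₀ * b) := by
          intro i
          calc X i * c₀ * Y i * (a * f * b)
              = X i * (c₀ * f) * Y i * (a * f * b) := by rw [h2]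
            _ = X i * (c₀ * (f * (Y i * a) * f)) * b := by simp only [mul_assoc]
            _ = X i * (f * (Y i * a) * f * c₀) * b := by rw [hcomm]
            _ = X i * f * Y i * (a * (f * c₀) * b) := by simp only [mul_assoc]
            _ = _ := by rw [h1]
        rw [Finset.sum_congr rfl fun i _ => h i, ← Finset.sum_mul, hXY, hea, hea]
      · rw [hc₁, ← mul_assoc, ← D.central, mul_assoc, Finset.mul_sum]
        have h : ∀ i, a * f * b * (X i * c₀ * Y i) = a * c₀ * b * (X i * f * Y i) := by
          intro i
          calc a * f * b * (X i * c₀ * Y i)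
              = a * f * b * (X i * (f * c₀) * Y i) := by rw [h1]
            _ = a * (f * (b * X i) * f * c₀) * Y i := by simp only [mul_assoc]
            _ = a * (c₀ * (f * (b * X i) * f)) * Y i := by rw [hcomm]
            _ = a * (c₀ * f) * b * (X i * f * Y i) := by simp only [mul_assoc]
            _ = _ := by rw [h2]
        rw [Finset.sum_congr rfl fun i _ => h i, ← Finset.mul_sum, hXY, ← D.central, hea, hea]
    have he1 : e * c₁ = c₁ := by rw [hc₁, ← mul_assoc, D.idem]
    have hc1c : ∀ y, c₁ * y = y * c₁ := by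
      intro y
      have h : c₁ * (e * y) = e * y * c₁ := by
        rw [← hXY, Finset.sum_mul, Finset.mul_sum, Finset.sum_mul]
        exact Finset.sum_congr rfl fun i _ => by
          rw [show X i * f * Y i * y = X i * f * (Y i * y) by simp only [mul_assoc],
            (key _ _).1, (key _ _).2]
      have hce : c₁ * e = c₁ := by rw [← D.central, he1]
      rw [← mul_assoc, hce, D.central y, mul_assoc y e c₁, he1] at h
      exact h
    refine ⟨⟨c₁, mem_blockCentre.2 ⟨he1, hc1c⟩⟩, Subtype.ext ?_⟩
    show c₁ * f = c₀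
    have h := (key f f).1
    rwa [hf.idem, hf.idem, h1, h2] at h

/-- The block and the projective `R f` are free over the corner. -/
theorem finrank_free : ∃ n : ℕ,
    Module.finrank k (LinearMap.range (LinearMap.mulRight k f)) =
        n * Module.finrank k (corner k f) ∧
      Module.finrank k (LinearMap.range (LinearMap.mulLeft k e)) =
        n ^ 2 * Module.finrank k (corner k f) := by
  classical
  obtain ⟨C, hCn, hCf, hCmul, hCff⟩ := hf.exists_functional (k := k)
  set V := corner k f
  set A := LinearMap.range (LinearMap.mulRight k f)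
  set A' := LinearMap.range (LinearMap.mulLeft k f)
  have hA : ∀ x, x ∈ A ↔ x * f = x := fun x =>
    ⟨by rintro ⟨u, rfl⟩; simp only [LinearMap.mulRight_apply, mul_assoc, hf.idem], fun h => ⟨x, h⟩⟩
  have hA' : ∀ x, x ∈ A' ↔ f * x = x := fun x =>
    ⟨by rintro ⟨u, rfl⟩; simp only [LinearMap.mulLeft_apply, ← mul_assoc, hf.idem], fun h => ⟨x, h⟩⟩
  have hfe : f * e = f := by rw [← D.central, hf.le]
  have hAe : ∀ x ∈ A, e * x = x := fun x hx => by
    rw [← (hA x).1 hx, ← mul_assoc, D.central, mul_assoc, hf.le]
  have hA'e : ∀ x ∈ A', e * x = x := fun x hx => by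
    rw [← (hA' x).1 hx, ← mul_assoc, hf.le]
  -- a system of representatives of `R f` modulo the radical
  let L : A →ₗ[k] Module.Dual k R :=
    { toFun := fun x => C.comp (LinearMap.mulRight k (x : R))
      map_add' := fun x y => LinearMap.ext fun v => by simp [mul_add]
      map_smul' := fun r x => LinearMap.ext fun v => by simp }
  let b := Module.finBasis k (LinearMap.range L)
  set n := Module.finrank k (LinearMap.range L)
  choose x hx using fun i => (b i).2
  let Φ : (Fin n → V) →ₗ[k] A :=
    { toFun := fun l => ⟨∑ i, (x i : R) * (l i : R), (hA _).2 (by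
        rw [Finset.sum_mul]
        exact Finset.sum_congr rfl fun i _ => by
          rw [mul_assoc, ((corner_mem_iff hf.idem).1 (l i).2).2])⟩
      map_add' := fun l l' => Subtype.ext (by simp [mul_add, Finset.sum_add_distrib])
      map_smul' := fun r l => Subtype.ext (by simp [Finset.smul_sum]) }
  have hΦ : ∀ l, ((Φ l : A) : R) = ∑ i, (x i : R) * (l i : R) := fun l => rfl
  -- independence over the scalars modulo the radical
  have hindep : ∀ c : Fin n → k, (∀ y, C (y * ∑ i, c i • (x i : R)) = 0) → ∀ i, c i = 0 := by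
    intro c hc
    refine Fintype.linearIndependent_iff.1 b.linearIndependent c (Subtype.ext ?_)
    rw [Submodule.coe_sum]
    refine LinearMap.ext fun y => ?_
    simp only [Submodule.coe_smul, LinearMap.coe_sum, Finset.sum_apply, LinearMap.smul_apply,
      ZeroMemClass.coe_zero, LinearMap.zero_apply]
    have h := hc y
    rw [Finset.mul_sum, map_sum] at h
    refine Eq.trans (Finset.sum_congr rfl fun i _ => ?_) h
    rw [← hx i, mul_smul_comm, map_smul]
    rfl
  have hC0 : ∀ v ∈ V, C v = 0 → IsNilpotent v := fun v hv h => by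
    obtain ⟨v1, v2⟩ := (corner_mem_iff hf.idem).1 hv
    have := hCn v
    rwa [v1, v2, h, zero_smul, sub_zero] at this
  have hCmulV : ∀ y v, v ∈ V → C (y * v) = C y * C v := fun y v hv => by
    obtain ⟨v1, -⟩ := (corner_mem_iff hf.idem).1 hv
    conv_lhs => rw [← v1, ← mul_assoc]
    exact hCmul y v
  -- the corner's radical
  set J : Submodule k R := hf.radical
  have hJV : J ≤ V := fun v hv => (corner_mem_iff hf.idem).2 hv.2
  have hJC : ∀ v ∈ J, C v = 0 := fun v hv => by
    have h := hCn v
    rw [hv.2.1, hv.2.2] at h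
    exact hf.scalar_unique (k := k) hv.2.1 hv.2.2 h (by rw [zero_smul, sub_zero]; exact hv.1)
  -- injectivity: maximise the depth
  have hpowJ : ∃ N : ℕ, ∀ g : Fin (N + 1) → R, (∀ i, g i ∈ J) → (List.ofFn g).prod = 0 := by
    -- products of enough radical elements vanish
    let Jp : ℕ → Submodule k R := fun m => Nat.rec J (fun _ T => J * T) m
    have hJJ : J * J ≤ J := Submodule.mul_le.2 fun a ha c hc => by
      refine ⟨hf.nilpotent_mul_right (k := k) ha.1 ha.2.1 ha.2.2 hc.2.1 hc.2.2,
        by rw [← mul_assoc, ha.2.1], by rw [mul_assoc, hc.2.2]⟩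
    have hle : ∀ m, Jp (m + 1) ≤ Jp m ∧ Jp m ≤ J := by
      intro m
      induction m with
      | zero => exact ⟨hJJ, le_rfl⟩
      | succ m ih => exact ⟨Submodule.mul_le.2 fun a ha c hc => Submodule.mul_mem_mul ha (ih.1 hc),
          ih.1.trans ih.2⟩
    have hmem : ∀ (m : ℕ) (g : Fin (m + 1) → R), (∀ i, g i ∈ J) → (List.ofFn g).prod ∈ Jp m := by
      intro m
      induction m with
      | zero => intro g hg; show _ ∈ J; simpa [List.ofFn_succ] using hg 0
      | succ m ih =>
        intro g hg
        rw [List.ofFn_succ, List.prod_cons]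
        exact Submodule.mul_mem_mul (hg 0) (ih _ fun i => hg i.succ)
    have hlt : ∀ m, Jp m ≠ ⊥ → Jp (m + 1) < Jp m := by
      intro m hm
      refine lt_of_le_of_ne (hle m).1 fun heq => ?_
      -- Nakayama
      obtain ⟨S, hSmax⟩ : ∃ S : Submodule k R, (S ≤ Jp m ∧ S ≠ Jp m ∧ J * S ≤ S) ∧
          ∀ S', (S' ≤ Jp m ∧ S' ≠ Jp m ∧ J * S' ≤ S') → S ≤ S' → S' = S := by
        obtain ⟨S, hS, hmax⟩ := wellFounded_gt.has_min
          {S : Submodule k R | S ≤ Jp m ∧ S ≠ Jp m ∧ J * S ≤ S}
          ⟨⊥, bot_le, fun h => hm h.symm, by rw [Submodule.mul_bot]⟩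
        exact ⟨S, hS, fun S' hS' hle' => by
          by_contra hne; exact hmax S' hS' (lt_of_le_of_ne hle' (Ne.symm hne))⟩
      obtain ⟨⟨hSX, hSne, hSst⟩, hmax⟩ := hSmax
      refine hSne (le_antisymm hSX (heq.symm.le.trans (Submodule.mul_le.2 fun a ha w hw => ?_)))
      by_cases hwS : w ∈ S
      · exact hSst (Submodule.mul_mem_mul ha hwS)
      let S' : Submodule k R := S ⊔ J.map (LinearMap.mulRight k w)
      have hwne : w ∉ S' := by
        intro hmem'
        obtain ⟨s, hs, _, ⟨a', ha', rfl⟩, hsum'⟩ := Submodule.mem_sup.1 hmem'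
        apply hwS
        simp only [LinearMap.mulRight_apply] at hsum'
        have h2 : w - a' * w ∈ S := by rwa [show w - a' * w = s by rw [sub_eq_iff_eq_add, hsum']]
        have hj : ∀ j : ℕ, w - a' ^ (j + 1) * w ∈ S := by
          intro j
          induction j with
          | zero => rwa [zero_add, pow_one]
          | succ j ihj =>
            have h3 := S.add_mem h2 (hSst (Submodule.mul_mem_mul ha' ihj))
            rwa [mul_sub, ← mul_assoc, ← pow_succ' a', sub_add_sub_cancel] at h3
        obtain ⟨j, hj0⟩ := ha'.1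
        have h := hj j
        rwa [pow_succ, hj0, zero_mul, zero_mul, sub_zero] at h
      have hS' : S' ≤ Jp m ∧ S' ≠ Jp m ∧ J * S' ≤ S' := by
        refine ⟨sup_le hSX ?_, fun h => hwne (h ▸ hw), ?_⟩
        · rintro _ ⟨a', ha', rfl⟩
          exact (hle m).1 (Submodule.mul_mem_mul ha' hw)
        · rw [Submodule.mul_sup]
          refine sup_le (hSst.trans le_sup_left) (Submodule.mul_le.2 ?_)
          rintro c hc _ ⟨a', ha', rfl⟩
          exact Submodule.mem_sup_right ⟨c * a', hJJ (Submodule.mul_mem_mul hc ha'),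
            by simp only [LinearMap.mulRight_apply, mul_assoc]⟩
      rw [← hmax S' hS' le_sup_left]
      exact Submodule.mem_sup_right ⟨a, ha, rfl⟩
    obtain ⟨N, hN⟩ : ∃ N, Jp N = ⊥ := by
      by_contra hcon
      push Not at hcon
      have h : ∀ m, Module.finrank k (Jp m) + m ≤ Module.finrank k (Jp 0) := by
        intro m
        induction m with
        | zero => simp
        | succ m ih => have := Submodule.finrank_lt_finrank_of_lt (hlt m (hcon m)); omega
      have := h (Module.finrank k (Jp 0) + 1)
      omega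
    exact ⟨N, fun g hg => by
      have h := hmem N g hg
      rw [hN, Submodule.mem_bot] at h
      exact h⟩
  obtain ⟨N, hN⟩ := hpowJ
  -- left products by radical elements eventually vanish
  have hdeep : ∀ (P : R → Prop), (∀ v, P v → v ∈ V) →
      ∀ (ι : Type) [Fintype ι] (l : ι → R) (a : ι → ι → R), (∀ i, P (l i)) → (∀ i j, a i j ∈ J) →
      (∀ i, l i = ∑ j, a i j * l j) → ∀ i, l i = 0 := by
    intro P _ ι _ l a _ ha hrec
    have h : ∀ (m : ℕ) (g : Fin m → R), (∀ q, g q ∈ J) → m = N + 1 → ∀ i, (List.ofFn g).prod * l i = 0 :=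
      fun m g hg hm i => by subst hm; rw [hN g hg, zero_mul]
    have key : ∀ (d m : ℕ) (g : Fin m → R), (∀ q, g q ∈ J) → m + d = N + 1 →
        ∀ i, (List.ofFn g).prod * l i = 0 := by
      intro d
      induction d with
      | zero => intro m g hg hm i; exact h m g hg (by omega) i
      | succ d ih =>
        intro m g hg hm i
        rw [hrec i, Finset.mul_sum]
        refine Finset.sum_eq_zero fun j _ => ?_
        have h' := ih (m + 1) (Fin.snoc g (a i j)) (Fin.lastCases (by simpa using ha i j)
          (fun q => by simpa using hg q)) (by omega) j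
        rw [List.ofFn_succ', List.concat_eq_append, List.prod_append, List.prod_singleton,
          Fin.snoc_last] at h'
        simp only [Fin.snoc_castSucc] at h'
        rwa [mul_assoc] at h'
    intro i
    simpa using key (N + 1) 0 Fin.elim0 (fun q => q.elim0) (by omega) i
  -- dual system
  have hy : ∀ i, ∃ y : R, ∀ j, C (y * (x j : R)) = if j = i then 1 else 0 := fun i => by
    obtain ⟨F, hF⟩ := LinearMap.dualMap_surjective_of_injective (f := (LinearMap.range L).subtype)
      Subtype.val_injective (b.coord i)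
    obtain ⟨y, rfl⟩ := (Module.evalEquiv k R).surjective F
    refine ⟨y, fun j => ?_⟩
    have h := LinearMap.congr_fun hF (b j)
    rw [b.coord_apply, b.repr_self, Finsupp.single_apply] at h
    exact (LinearMap.congr_fun (hx j) y).trans h
  choose y hy using hy
  have hinjΦ : Function.Injective Φ := by
    refine (injective_iff_map_eq_zero Φ).2 fun l hl => ?_
    have hl' : ∑ j, (x j : R) * (l j : R) = 0 := by rw [← hΦ, hl]; rfl
    have hrec : ∀ i, (l i : R) =
        ∑ j, ((if j = i then f else 0) - f * (y i * (x j : R)) * f) * (l j : R) := by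
      intro i
      simp only [sub_mul, Finset.sum_sub_distrib, ite_mul, zero_mul, Finset.sum_ite_eq',
        Finset.mem_univ, if_true, ((corner_mem_iff hf.idem).1 (l i).2).1]
      rw [show ∑ j, f * (y i * (x j : R)) * f * (l j : R) = f * y i * ∑ j, (x j : R) * (l j : R) by
        rw [Finset.mul_sum]
        exact Finset.sum_congr rfl fun j _ => by
          rw [mul_assoc (f * (y i * (x j : R))), ((corner_mem_iff hf.idem).1 (l j).2).1]
          simp only [mul_assoc], hl', mul_zero, sub_zero]
    have h0 := hdeep (· ∈ V) (fun v hv => hv) (Fin n) (fun i => (l i : R)) _ (fun i => (l i).2)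
      (fun i j => ?_) hrec
    · exact funext fun i => Subtype.ext (h0 i)
    · have h := hCn (y i * x j)
      rw [hy] at h
      refine ⟨?_, ?_, ?_⟩
      · have h' := h.neg
        split_ifs at h' ⊢ with hji
        · rwa [one_smul, neg_sub] at h'
        · rwa [zero_smul, sub_zero, ← zero_sub] at h'
      · split_ifs <;> simp only [mul_sub, mul_zero, hf.idem, hf.left]
      · split_ifs <;> simp only [sub_mul, zero_mul, hf.idem, hf.right]
  have hsurjΦ : Function.Surjective Φ := by
    -- every element is a combination modulo the radical, hence exactly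
    obtain ⟨m, X, Y, hXY⟩ := sum_eq_of_mem hfull
    set Im := LinearMap.range Φ
    let T : Submodule k R := Im.map A.subtype
    have hT : ∀ u ∈ T, ∀ v ∈ V, u * v ∈ T := by
      rintro _ ⟨_, ⟨l, rfl⟩, rfl⟩ v hv
      obtain ⟨v1, v2⟩ := (corner_mem_iff hf.idem).1 hv
      refine ⟨Φ fun i => ⟨(l i : R) * v, (corner_mem_iff hf.idem).2 ⟨?_, ?_⟩⟩, ⟨_, rfl⟩, ?_⟩
      · rw [← mul_assoc, ((corner_mem_iff hf.idem).1 (l i).2).1]
      · rw [mul_assoc, v2]
      · simp only [Submodule.subtype_apply, hΦ, Finset.sum_mul, mul_assoc]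
    have hxT : ∀ i, (x i : R) ∈ T := fun i => by
      refine ⟨Φ (Pi.single i ⟨f, (corner_mem_iff hf.idem).2 ⟨hf.idem, hf.idem⟩⟩), ⟨_, rfl⟩, ?_⟩
      simp only [Submodule.subtype_apply, hΦ]
      rw [Finset.sum_eq_single i (fun j _ hj => by simp [Pi.single_eq_of_ne hj])
        (fun h => absurd (Finset.mem_univ i) h), Pi.single_eq_same, (hA _).1 (x i).2]
    -- the defect of an element modulo `T` lies in `A * J`
    have hstep : ∀ u ∈ A, ∃ t ∈ T, u - t ∈ A * J := by
      intro u hu
      obtain ⟨c, hc⟩ : ∃ c : Fin n → k, ∑ i, c i • b i = ⟨L ⟨u, hu⟩, LinearMap.mem_range_self L _⟩ :=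
        ⟨_, b.sum_repr _⟩
      refine ⟨∑ i, c i • (x i : R), T.sum_mem fun i _ => T.smul_mem _ (hxT i), ?_⟩
      set w := u - ∑ i, c i • (x i : R) with hw
      have hwC : ∀ z, C (z * w) = 0 := fun z => by
        have h := LinearMap.congr_fun (congrArg Subtype.val hc) z
        simp only [Submodule.coe_sum, Submodule.coe_smul, LinearMap.coe_sum, Finset.sum_apply,
          LinearMap.smul_apply] at h
        rw [hw, mul_sub, map_sub, Finset.mul_sum, map_sum, sub_eq_zero]
        refine Eq.trans h.symm (Finset.sum_congr rfl fun i _ => ?_)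
        rw [← hx i, mul_smul_comm, map_smul]
        rfl
      have hwA : w ∈ A := A.sub_mem hu (A.sum_mem fun i _ => A.smul_mem _ (x i).2)
      have hwe : w = ∑ i, X i * f * (f * (Y i * w) * f) := by
        conv_lhs => rw [← hAe w hwA, ← (hA w).1 hwA, ← hXY, Finset.sum_mul]
        refine Finset.sum_congr rfl fun i _ => ?_
        rw [show X i * f * (f * (Y i * w) * f) = X i * (f * f) * Y i * (w * f) by
          simp only [mul_assoc], hf.idem]
      rw [hwe]
      refine Submodule.sum_mem _ fun i _ => Submodule.mul_mem_mul ((hA _).2 (by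
        rw [mul_assoc, hf.idem])) ⟨?_, hf.left, hf.right⟩
      have h := hCn (Y i * w)
      rwa [hwC, zero_smul, sub_zero] at h
    -- iterate
    have hiter : ∀ (d : ℕ) (g : Fin (N + 1 - d) → R), (∀ q, g q ∈ J) → ∀ u ∈ A,
        u * (List.ofFn g).prod ∈ T := by
      intro d
      induction d with
      | zero => intro g hg u _; rw [hN g hg, mul_zero]; exact T.zero_mem
      | succ d ih =>
        intro g hg u hu
        by_cases hd : d < N + 1
        · obtain ⟨t, ht, htu⟩ := hstep u hu
          have hgV : (List.ofFn g).prod ∈ V ∨ g = fun _ => 1 := by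
            rcases Nat.eq_zero_or_pos (N + 1 - (d + 1)) with h0 | h0
            · right; funext q; exact absurd q.2 (by omega)
            · left
              have : ∀ (m : ℕ) (g : Fin (m + 1) → R), (∀ q, g q ∈ J) → (List.ofFn g).prod ∈ J := by
                intro m
                induction m with
                | zero => intro g hg; simpa [List.ofFn_succ] using hg 0
                | succ m ihm =>
                  intro g hg
                  rw [List.ofFn_succ, List.prod_cons]
                  have h2 := ihm _ fun i => hg i.succ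
                  exact ⟨hf.nilpotent_mul_right (k := k) (hg 0).1 (hg 0).2.1 (hg 0).2.2 h2.2.1 h2.2.2,
                    by rw [← mul_assoc, (hg 0).2.1], by rw [mul_assoc, h2.2.2]⟩
              obtain ⟨q, hq⟩ : ∃ q, N + 1 - (d + 1) = q + 1 := ⟨N + 1 - (d + 1) - 1, by omega⟩
              refine hJV ?_
              have h3 := this q (g ∘ Fin.cast hq.symm) fun i => hg _
              rwa [show List.ofFn (g ∘ Fin.cast hq.symm) = List.ofFn g from
                (List.ofFn_congr hq g).symm] at h3
          have hsplit : u * (List.ofFn g).prod =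
              t * (List.ofFn g).prod + (u - t) * (List.ofFn g).prod := by
            rw [sub_mul, add_sub_cancel]
          rw [hsplit]
          refine T.add_mem ?_ ?_
          · rcases hgV with h | h
            · exact hT t ht _ h
            · subst h; simpa using ht
          · refine Submodule.mul_induction_on htu (fun p hp q hq => ?_) (fun p q hp hq => ?_)
            · have hlen : N + 1 - d = N + 1 - (d + 1) + 1 := by omega
              have h := ih (Fin.cons q g ∘ Fin.cast hlen)
                (fun i => by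
                  show (Fin.cons q g : Fin _ → R) _ ∈ J
                  refine Fin.cases ?_ (fun r => ?_) (Fin.cast hlen i)
                  · simpa using hq
                  · simpa using hg r) p hp
              rwa [show List.ofFn (Fin.cons q g ∘ Fin.cast hlen) = List.ofFn (Fin.cons q g) from
                  (List.ofFn_congr hlen.symm (Fin.cons q g)).symm,
                List.ofFn_cons, List.prod_cons, ← mul_assoc] at h
            · rw [add_mul]; exact T.add_mem hp hq
        · have hg1 : g = fun _ => 1 := funext fun q => absurd q.2 (by omega)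
          have h := ih (fun q => absurd q.2 (by omega)) (fun q => absurd q.2 (by omega)) u hu
          rw [show List.ofFn g = [] from List.ofFn_eq_nil_iff.2 (by omega)]
          rwa [show List.ofFn (fun q : Fin (N + 1 - d) => absurd q.2 (by omega) : Fin (N + 1 - d) → R)
            = [] from List.ofFn_eq_nil_iff.2 (by omega)] at h
    rintro ⟨u, hu⟩
    have h := hiter (N + 1) (fun q => absurd q.2 (by omega)) (fun q => absurd q.2 (by omega)) u hu
    rw [show List.ofFn (fun q : Fin (N + 1 - (N + 1)) => absurd q.2 (by omega) :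
        Fin (N + 1 - (N + 1)) → R) = [] from List.ofFn_eq_nil_iff.2 (by omega),
      List.prod_nil, mul_one] at h
    obtain ⟨_, ⟨l, rfl⟩, hl⟩ := h
    exact ⟨l, Subtype.ext hl⟩
  have hAdim : Module.finrank k A = n * Module.finrank k V := by
    rw [← (LinearEquiv.ofBijective Φ ⟨hinjΦ, hsurjΦ⟩).finrank_eq, Module.finrank_pi_fintype,
      Finset.sum_const, Finset.card_univ, Fintype.card_fin, smul_eq_mul]
  refine ⟨n, hAdim, ?_⟩
  -- the row map
  have hdual : Module.finrank k A' = Module.finrank k A := by
    let P : A' →ₗ[k] Module.Dual k A := ((LinearMap.mul k R).compr₂ τ).compl₁₂ A'.subtype A.subtype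
    let P' : A →ₗ[k] Module.Dual k A' := ((LinearMap.mul k R).compr₂ τ).compl₁₂ A.subtype A'.subtype
    have hP : Function.Injective P := (injective_iff_map_eq_zero P).2 fun v hv => Subtype.ext
      (D.nondeg _ (hA'e _ v.2) fun z => by
        have h : τ ((v : R) * (z * f)) = 0 := LinearMap.congr_fun hv ⟨z * f, z, rfl⟩
        rw [← mul_assoc, D.symm, ← mul_assoc, (hA' _).1 v.2] at h
        exact h)
    have hP' : Function.Injective P' := (injective_iff_map_eq_zero P').2 fun v hv => Subtype.ext
      (D.nondeg _ (hAe _ v.2) fun z => by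
        have h : τ ((v : R) * (f * z)) = 0 := LinearMap.congr_fun hv ⟨f * z, z, rfl⟩
        rw [← mul_assoc, (hA _).1 v.2] at h
        exact h)
    have h1 := LinearMap.finrank_le_finrank_of_injective hP
    have h2 := LinearMap.finrank_le_finrank_of_injective hP'
    rw [Subspace.dual_finrank_eq] at h1 h2
    omega
  let Ψ : A' →ₗ[k] (Fin n → V) :=
    LinearMap.pi fun j => ((LinearMap.mulRight k (x j : R)).comp A'.subtype).codRestrict V fun v =>
      (corner_mem_iff hf.idem).2 ⟨by
        show f * ((v : R) * (x j : R)) = _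
        rw [← mul_assoc, (hA' _).1 v.2]; rfl, by
        show (v : R) * (x j : R) * f = _
        rw [mul_assoc, (hA _).1 (x j).2]; rfl⟩
  have hΨ : ∀ v j, ((Ψ v j : V) : R) = (v : R) * (x j : R) := fun v j => rfl
  have hgen : ∀ u ∈ A, ∀ a, (∀ j, a * (x j : R) = 0) → a * u = 0 := by
    intro u hu a ha
    obtain ⟨l, hl⟩ := hsurjΦ ⟨u, hu⟩
    rw [show u = ((Φ l : A) : R) by rw [hl], hΦ, Finset.mul_sum]
    exact Finset.sum_eq_zero fun j _ => by rw [← mul_assoc, ha, zero_mul]
  have hinjΨ : Function.Injective Ψ := (injective_iff_map_eq_zero Ψ).2 fun v hv => Subtype.ext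
    (D.eq_zero_of_left_kill hf hfull (hA'e _ v.2) fun z => by
      rw [mul_assoc]
      refine hgen _ ((hA _).2 (by rw [mul_assoc, hf.idem])) _ fun j => ?_
      rw [← hΨ, hv]; rfl)
  have hsurjΨ : Function.Surjective Ψ := (LinearMap.injective_iff_surjective_of_finrank_eq_finrank (by
    rw [hdual, hAdim, Module.finrank_pi_fintype, Finset.sum_const, Finset.card_univ, Fintype.card_fin,
      smul_eq_mul])).1 hinjΨ
  set E := LinearMap.range (LinearMap.mulLeft k e)
  have hE : ∀ a : E, e * (a : R) = a := by
    rintro ⟨_, u, rfl⟩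
    exact D.e_mem u
  let Θ : E →ₗ[k] (Fin n → A) :=
    LinearMap.pi fun j => ((LinearMap.mulRight k (x j : R)).comp E.subtype).codRestrict A fun a =>
      (hA _).2 (by
        show (a : R) * (x j : R) * f = _
        rw [mul_assoc, (hA _).1 (x j).2]; rfl)
  have hΘ : ∀ a j, ((Θ a j : A) : R) = (a : R) * (x j : R) := fun a j => rfl
  have hinjΘ : Function.Injective Θ := (injective_iff_map_eq_zero Θ).2 fun a ha => Subtype.ext
    (D.eq_zero_of_left_kill hf hfull (hE a) fun z => by
      rw [mul_assoc]
      refine hgen _ ((hA _).2 (by rw [mul_assoc, hf.idem])) _ fun j => ?_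
      rw [← hΘ, ha]; rfl)
  have hsurjΘ : Function.Surjective Θ := by
    intro u
    have hz : ∀ i, ∃ z : A', ∀ j, (z : R) * (x j : R) = if j = i then f else 0 := fun i => by
      obtain ⟨z, hz⟩ := hsurjΨ fun j =>
        ⟨if j = i then f else 0, by
          split_ifs
          · exact (corner_mem_iff hf.idem).2 ⟨hf.idem, hf.idem⟩
          · exact V.zero_mem⟩
      exact ⟨z, fun j => by rw [← hΨ, hz]⟩
    choose z hz using hz
    refine ⟨⟨∑ i, (u i : R) * (z i : R), ∑ i, (u i : R) * (z i : R), ?_⟩, funext fun j => Subtype.ext ?_⟩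
    · show e * _ = _
      rw [Finset.mul_sum]
      exact Finset.sum_congr rfl fun i _ => by rw [← mul_assoc, hAe _ (u i).2]
    · rw [hΘ]
      show (∑ i, (u i : R) * (z i : R)) * (x j : R) = _
      rw [Finset.sum_mul, Finset.sum_congr rfl fun i _ => by rw [mul_assoc, hz]]
      simp [(hA _).1 (u j).2]
  rw [(LinearEquiv.ofBijective Θ ⟨hinjΘ, hsurjΘ⟩).finrank_eq, Module.finrank_pi_fintype,
    Finset.sum_const, Finset.card_univ, Fintype.card_fin, smul_eq_mul, hAdim, sq, mul_assoc]

end SymBlk

end CfsgLib.TwoChars
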