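import Cfsg.Agent.Lib.TwoChars.Corner
import Mathlib.LinearAlgebra.Dual.Lemmas

/-!
# Symmetric algebras with two-dimensional centre

The block cut out by `e` has dimension twice a square.
-/

set_option autoImplicit false
set_option linter.unusedSectionVars false
set_option maxSynthPendingDepth 3
set_option maxHeartbeats 1000000

namespace CfsgLib.TwoChars

variable {k : Type*} [Field k] {R : Type*} [Ring R] [Algebra k R]

/-- A symmetric form on the block cut out by the central idempotent `e`. -/
structure SymBlk (e : R) (τ : R →ₗ[k] k) : Prop where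
  idem : e * e = e
  central : ∀ x, e * x = x * e
  symm : ∀ x y, τ (x * y) = τ (y * x)
  nondeg : ∀ x, e * x = x → (∀ y, τ (x * y) = 0) → x = 0

/-- The data: a symmetric form on the block of `e`, whose centre is spanned by `e` and `z`. -/
structure SymData (e z : R) (τ : R →ₗ[k] k) : Prop extends SymBlk e τ where
  z_mem : e * z = z
  z_comm : ∀ x, z * x = x * z
  z_sq : z * z = 0
  z_ne : z ≠ 0
  centre : ∀ c, e * c = c → (∀ x, c * x = x * c) → ∃ a b : k, c = a • e + b • z

variable {e z : R} {τ : R →ₗ[k] k}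

namespace SymBlk

variable [IsAlgClosed k] [FiniteDimensional k R] (D : SymBlk e τ)
include D

theorem e_mem (x : R) : e * (e * x) = e * x := by rw [← mul_assoc, D.idem]

/-- Functionals on the block are given by the form. -/
theorem exists_rep (l : R →ₗ[k] k) : ∃ c : R, e * c = c ∧ ∀ x, τ (c * x) = l (e * x) := by
  classical
  let E := LinearMap.range (LinearMap.mulLeft k e)
  let Φ : E →ₗ[k] Module.Dual k E :=
    ((LinearMap.mul k R).compr₂ τ).compl₁₂ E.subtype E.subtype
  have hΦ : ∀ u v : E, Φ u v = τ ((u : R) * v) := fun u v => rfl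
  have hE : ∀ u : E, e * (u : R) = u := by
    rintro ⟨_, w, rfl⟩
    exact D.e_mem w
  have hinj : Function.Injective Φ := by
    rw [← LinearMap.ker_eq_bot, LinearMap.ker_eq_bot']
    intro u hu
    refine Subtype.ext (D.nondeg _ (hE u) fun y => ?_)
    have h := LinearMap.congr_fun hu ⟨e * y, y, rfl⟩
    rw [hΦ, ← mul_assoc, ← D.central, hE] at h
    exact h
  obtain ⟨⟨c, hc⟩, hcl⟩ := (LinearMap.injective_iff_surjective_of_finrank_eq_finrank
    Subspace.dual_finrank_eq.symm).1 hinj (l.comp E.subtype)
  refine ⟨c, hE ⟨c, hc⟩, fun x => ?_⟩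
  have h := LinearMap.congr_fun hcl ⟨e * x, x, rfl⟩
  rw [hΦ] at h
  simp only [LinearMap.comp_apply, Submodule.subtype_apply] at h
  rwa [← mul_assoc, ← D.central, hE ⟨c, hc⟩] at h

variable {f : R}

/-- A minimal idempotent has a trace functional, on a representation. -/
theorem exists_module (hf : IsMinIdem e f) {C : R →ₗ[k] k} (hCf : C f = 1)
    (hCmul : ∀ x y, C (x * f * y) = C x * C y) (hCff : ∀ x, C (f * x * f) = C x) :
    ∃ (W : Submodule k (Module.Dual k R)) (Θ : R →ₗ[k] Module.End k W) (φ : R →ₗ[k] k),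
      Function.Surjective Θ ∧ (∀ x, Θ (e * x) = Θ x) ∧ (∀ x y, Θ (x * y) = Θ x * Θ y) ∧ Θ 1 = 1 ∧
      (∀ a, Θ a = 0 ↔ ∀ x y, C (y * a * x) = 0) ∧
      (∀ a, φ a = LinearMap.trace k W (Θ a)) ∧ φ f = 1 ∧
      (∀ x y, φ (x * y) = φ (y * x)) ∧ (∀ x, φ (e * x) = φ x) ∧
      ∀ x, IsNilpotent x → φ x = 0 := by
  classical
  let L : R →ₗ[k] Module.Dual k R :=
    { toFun := fun x => C.comp (LinearMap.mulRight k x)
      map_add' := fun x y => LinearMap.ext fun v => by simp [mul_add]
      map_smul' := fun r x => LinearMap.ext fun v => by simp }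
  have hL : ∀ x y, L x y = C (y * x) := fun x y => rfl
  let W := LinearMap.range L
  let pre : R → Module.Dual k R →ₗ[k] Module.Dual k R := fun a => (LinearMap.mulRight k a).dualMap
  have hpre : ∀ a x, pre a (L x) = L (a * x) := fun a x => LinearMap.ext fun y => by
    show C (y * a * x) = C (y * (a * x))
    rw [mul_assoc]
  have hW : ∀ a, ∀ w ∈ W, pre a w ∈ W := by
    rintro a _ ⟨x, rfl⟩
    exact ⟨a * x, (hpre a x).symm⟩
  let Θ : R →ₗ[k] Module.End k W :=
    { toFun := fun a => (pre a).restrict (hW a)
      map_add' := fun a b => LinearMap.ext fun w => Subtype.ext (LinearMap.ext fun y => by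
        show (w : Module.Dual k R) (y * (a + b)) = (w : Module.Dual k R) (y * a) +
          (w : Module.Dual k R) (y * b)
        rw [mul_add, map_add])
      map_smul' := fun r a => LinearMap.ext fun w => Subtype.ext (LinearMap.ext fun y => by
        show (w : Module.Dual k R) (y * (r • a)) = r • (w : Module.Dual k R) (y * a)
        rw [mul_smul_comm, map_smul]) }
  have hΘ : ∀ a x, ((Θ a ⟨L x, x, rfl⟩ : W) : Module.Dual k R) = L (a * x) := fun a x => hpre a x
  have hΘmul : ∀ a b, Θ (a * b) = Θ a * Θ b := fun a b => LinearMap.ext fun w =>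
    Subtype.ext (LinearMap.ext fun y => by
      show (w : Module.Dual k R) (y * (a * b)) = (w : Module.Dual k R) (y * a * b)
      rw [mul_assoc])
  have hfe : f * e = f := by rw [← D.central, hf.le]
  have hCe : ∀ x, C (e * x) = C x := fun x => by
    rw [← hCff (e * x), show f * (e * x) * f = f * e * x * f by simp only [mul_assoc], hfe, hCff]
  have hΘe : ∀ a, Θ (e * a) = Θ a := fun a => LinearMap.ext fun w => Subtype.ext (by
    obtain ⟨w, x, rfl⟩ := w
    rw [hΘ, hΘ]
    ext y
    rw [hL, hL, ← mul_assoc y (e * a), ← mul_assoc y e, ← D.central, mul_assoc e, mul_assoc e,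
      hCe, mul_assoc])
  have hrank1 : ∀ x y (w : W), ((Θ (x * f * y) w : W) : Module.Dual k R) =
      (w : Module.Dual k R) y • L x := by
    rintro x y ⟨_, v, rfl⟩
    rw [hΘ]
    ext u
    show C (u * (x * f * y * v)) = C (y * v) • C (u * x)
    rw [show u * (x * f * y * v) = u * x * f * (y * v) by simp only [mul_assoc], hCmul, smul_eq_mul,
      mul_comm]
  have hsurj : Function.Surjective Θ := by
    intro T
    let b := Module.finBasis k W
    have hx : ∀ i, ∃ x, L x = ((b i : W) : Module.Dual k R) := fun i => (b i).2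
    choose x hx using hx
    have hy : ∀ i, ∃ y : R, ∀ w : W, (w : Module.Dual k R) y = b.coord i (T w) := fun i => by
      obtain ⟨F, hF⟩ := LinearMap.dualMap_surjective_of_injective (f := W.subtype)
        Subtype.val_injective ((b.coord i).comp T)
      obtain ⟨y, rfl⟩ := (Module.evalEquiv k R).surjective F
      exact ⟨y, fun w => LinearMap.congr_fun hF w⟩
    choose y hy using hy
    refine ⟨∑ i, x i * f * y i, LinearMap.ext fun w => Subtype.ext ?_⟩
    rw [map_sum, LinearMap.sum_apply, Submodule.coe_sum]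
    conv_rhs => rw [← b.sum_repr (T w), Submodule.coe_sum]
    refine Finset.sum_congr rfl fun i _ => ?_
    rw [hrank1, hx, Submodule.coe_smul, hy i w]
    rfl
  let φ : R →ₗ[k] k := (LinearMap.trace k W).comp Θ
  have hφf : φ f = 1 := by
    let w₁ : W := ⟨L f, f, rfl⟩
    let g : W →ₗ[k] k := (LinearMap.applyₗ f).comp W.subtype
    have hΘf : Θ f = g.smulRight w₁ := LinearMap.ext fun w => Subtype.ext (by
      have h := hrank1 f f w
      rw [hf.idem, hf.idem] at h
      exact h)
    show LinearMap.trace k W (Θ f) = 1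
    rw [hΘf, LinearMap.trace_smulRight]
    show C (f * f) = 1
    rw [hf.idem, hCf]
  have hΘ1 : Θ 1 = 1 := LinearMap.ext fun w => Subtype.ext (LinearMap.ext fun y => by
    show (w : Module.Dual k R) (y * 1) = (w : Module.Dual k R) y
    rw [mul_one])
  refine ⟨W, Θ, φ, hsurj, hΘe, hΘmul, hΘ1, fun a => ⟨fun h x y => ?_, fun h => ?_⟩, fun a => rfl, hφf,
    fun x y => ?_, fun x => ?_, fun x hx => ?_⟩
  · have h1 := LinearMap.congr_fun (congrArg Subtype.val (LinearMap.congr_fun h ⟨L x, x, rfl⟩)) y
    rw [hΘ, hL, ← mul_assoc] at h1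
    exact h1
  · refine LinearMap.ext fun w => Subtype.ext ?_
    obtain ⟨w, x, rfl⟩ := w
    rw [hΘ]
    ext y
    rw [hL, ← mul_assoc, h x y]
    rfl
  · show LinearMap.trace k W (Θ (x * y)) = LinearMap.trace k W (Θ (y * x))
    rw [hΘmul, hΘmul, LinearMap.trace_mul_comm]
  · show LinearMap.trace k W (Θ (e * x)) = LinearMap.trace k W (Θ x)
    rw [hΘe]
  · obtain ⟨n, hn⟩ := hx
    have hpow : ∀ j : ℕ, Θ (x ^ (j + 1)) = Θ x ^ (j + 1) := fun j => by
      induction j with
      | zero => rw [zero_add, pow_one, pow_one]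
      | succ j ih => rw [pow_succ, hΘmul, ih, ← pow_succ]
    have h : IsNilpotent (Θ x) := ⟨n + 1, by rw [← hpow, pow_succ, hn, zero_mul, map_zero]⟩
    show LinearMap.trace k W (Θ x) = 0
    exact isNilpotent_iff_eq_zero.1 (LinearMap.isNilpotent_trace_of_isNilpotent h)

end SymBlk

namespace SymData

variable [IsAlgClosed k] [FiniteDimensional k R] (D : SymData e z τ)
include D

/-- A symmetric functional on the block comes from the centre. -/
theorem exists_coeff (φ : R →ₗ[k] k) (hφ : ∀ x y, φ (x * y) = φ (y * x))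
    (he : ∀ x, φ (e * x) = φ x) : ∃ a b : k, ∀ x, φ x = a * τ (e * x) + b * τ (z * x) := by
  obtain ⟨c, hc, hcl⟩ := D.toSymBlk.exists_rep φ
  have hcomm : ∀ x, c * x = x * c := by
    intro x
    refine sub_eq_zero.1 (D.nondeg _ ?_ fun y => ?_)
    · rw [mul_sub, ← mul_assoc, hc, ← mul_assoc, D.central x, mul_assoc, hc]
    · rw [sub_mul, map_sub, D.symm (x * c) y, ← mul_assoc y x c, D.symm (y * x) c, mul_assoc c x y,
        hcl, hcl, he, he, hφ x y, sub_self]
  obtain ⟨a, b, rfl⟩ := D.centre c hc hcomm
  refine ⟨a, b, fun x => ?_⟩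
  rw [← he x, ← hcl x, add_mul, smul_mul_assoc, smul_mul_assoc, map_add, map_smul, map_smul,
    smul_eq_mul, smul_eq_mul]

variable {f : R}

/-- A nilpotent-killing symmetric functional is a multiple of `τ (z ·)`. -/
theorem eq_smul_z (φ : R →ₗ[k] k) (hφ : ∀ x y, φ (x * y) = φ (y * x))
    (he : ∀ x, φ (e * x) = φ x) (hn : ∀ x, IsNilpotent x → φ x = 0) :
    ∃ b : k, ∀ x, φ x = b * τ (z * x) := by
  obtain ⟨a, b, hab⟩ := D.exists_coeff φ hφ he
  refine ⟨b, fun x => ?_⟩
  suffices ha : a = 0 by rw [hab, ha, zero_mul, zero_add]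
  by_contra ha
  apply D.z_ne
  refine D.nondeg z D.z_mem fun y => ?_
  have hzy : IsNilpotent (z * y) := ⟨2, by
    rw [pow_two, mul_assoc, ← mul_assoc y z, ← D.z_comm y, mul_assoc z y, ← mul_assoc z z, D.z_sq,
      zero_mul]⟩
  have h := hn _ hzy
  rw [hab, ← mul_assoc e z y, D.z_mem, ← mul_assoc z z y, D.z_sq, zero_mul, map_zero, mul_zero,
    add_zero] at h
  exact (mul_eq_zero.1 h).resolve_left ha

/-- The span of `R f R`. -/
def twoSided (f : R) : Submodule k R := Submodule.span k (Set.range fun t : R × R => t.1 * f * t.2)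

theorem e_mem_twoSided (hf : IsMinIdem e f) : e ∈ twoSided (k := k) f := by
  refine mem_of_minIdem_mem (e := e) _ (fun g hg => ?_) e D.idem D.idem
  obtain ⟨Cf, -, hCf, hCfmul, hCfff⟩ := hf.exists_functional (k := k)
  obtain ⟨Cg, hCgn, hCg, hCgmul, hCgff⟩ := hg.exists_functional (k := k)
  obtain ⟨_, _, φ, -, -, -, -, -, -, hφf, hφs, hφe, hφn⟩ := D.toSymBlk.exists_module hf hCf hCfmul hCfff
  obtain ⟨_, Θ, φ', -, -, -, -, hker, hφtr, hφg, hφs', hφe', hφn'⟩ := D.toSymBlk.exists_module hg hCg hCgmul hCgff
  obtain ⟨b, hb⟩ := D.eq_smul_z φ hφs hφe hφn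
  obtain ⟨b', hb'⟩ := D.eq_smul_z φ' hφs' hφe' hφn'
  have hne : φ' f ≠ 0 := by
    rw [hb']
    refine mul_ne_zero (fun h => ?_) (fun h => ?_)
    · rw [hb' g, h, zero_mul] at hφg; exact one_ne_zero hφg.symm
    · rw [hb f, h, mul_zero] at hφf; exact one_ne_zero hφf.symm
  have hΘ : Θ f ≠ 0 := fun h => hne (by rw [hφtr, h, map_zero])
  rw [Ne, hker] at hΘ
  push Not at hΘ
  obtain ⟨x, y, hxy⟩ := hΘ
  obtain ⟨u, -, -, hu⟩ := hg.exists_left_inv hxy (hCgn (y * f * x))
    (by rw [mul_sub, hg.left, mul_smul_comm, hg.idem])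
    (by rw [sub_mul, hg.right, smul_mul_assoc, hg.idem])
  rw [add_sub_cancel] at hu
  exact hu ▸ Submodule.subset_span ⟨(u * g * y, x * g), by simp only [mul_assoc]⟩

theorem exists_sum_eq (hf : IsMinIdem e f) :
    ∃ (ι : Type) (_ : Fintype ι) (x y : ι → R), ∑ i, x i * f * y i = e := by
  obtain ⟨c, hc⟩ := (Finsupp.mem_span_range_iff_exists_finsupp).1 (D.e_mem_twoSided hf)
  classical
  obtain ⟨n, σ⟩ := Finite.exists_equiv_fin c.support
  refine ⟨Fin n, inferInstance, fun i => c ((σ.some.symm i).1) • ((σ.some.symm i).1).1,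
    fun i => ((σ.some.symm i).1).2, ?_⟩
  rw [← hc, Finsupp.sum, ← Finset.sum_coe_sort c.support]
  exact Fintype.sum_equiv σ.some.symm _ _ fun i => by simp [smul_mul_assoc]

/-- The products of two nilpotent corner elements vanish. -/
theorem nil_mul_nil (hf : IsMinIdem e f) {u v : R} (hu : IsNilpotent u) (hul : f * u = u)
    (hur : u * f = u) (hv : IsNilpotent v) (hvl : f * v = v) (hvr : v * f = v) : u * v = 0 := by
  classical
  let P : R → Prop := fun x => IsNilpotent x ∧ f * x = x ∧ x * f = x
  let I : Submodule k R :=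
    { carrier := {x | P x}
      zero_mem' := ⟨IsNilpotent.zero, mul_zero _, zero_mul _⟩
      add_mem' := fun {a b} ha hb => ⟨hf.nilpotent_add (k := k) ha.1 hb.1 ha.2.1 ha.2.2 hb.2.1 hb.2.2,
        by rw [mul_add, ha.2.1, hb.2.1], by rw [add_mul, ha.2.2, hb.2.2]⟩
      smul_mem' := fun r {a} ha => ⟨ha.1.smul r, by rw [mul_smul_comm, ha.2.1],
        by rw [smul_mul_assoc, ha.2.2]⟩ }
  let Q : Submodule k R := Submodule.span k {x | ∃ a b, P a ∧ P b ∧ a * b = x}
  have hPmul : ∀ a b, P a → P b → P (a * b) := fun a b ha hb =>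
    ⟨hf.nilpotent_mul_right (k := k) ha.1 ha.2.1 ha.2.2 hb.2.1 hb.2.2,
      by rw [← mul_assoc, ha.2.1], by rw [mul_assoc, hb.2.2]⟩
  have hPmulr : ∀ a r, P a → P (a * (f * r * f)) := fun a r ha =>
    ⟨hf.nilpotent_mul_right (k := k) ha.1 ha.2.1 ha.2.2 hf.left hf.right,
      by rw [← mul_assoc, ha.2.1], by rw [mul_assoc, hf.right]⟩
  have hQI : Q ≤ I := Submodule.span_le.2 fun x ⟨a, b, ha, hb, hx⟩ => hx ▸ hPmul a b ha hb
  obtain ⟨C, hCn, hCf, hCmul, hCff⟩ := hf.exists_functional (k := k)
  obtain ⟨_, _, φ, -, -, -, -, -, -, hφf, hφs, hφe, hφn⟩ := D.toSymBlk.exists_module hf hCf hCmul hCff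
  obtain ⟨b, hb⟩ := D.eq_smul_z φ hφs hφe hφn
  have hb0 : b ≠ 0 := fun h => by rw [hb f, h, zero_mul] at hφf; exact one_ne_zero hφf.symm
  have hzero : ∀ q ∈ Q, τ q = 0 := by
    by_contra hcon
    push Not at hcon
    obtain ⟨q₀, hq₀, hτ⟩ := hcon
    have hIQ : I ≤ Q := by
      intro x hx
      set x' := x - (τ x * (τ q₀)⁻¹) • q₀ with hx'
      suffices h : x' ∈ Q by
        have := Q.add_mem h (Q.smul_mem (τ x * (τ q₀)⁻¹) hq₀)
        rwa [hx', sub_add_cancel] at this
      have hx'I : P x' := I.sub_mem hx (I.smul_mem _ (hQI hq₀))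
      have hτ0 : τ x' = 0 := by
        rw [hx', map_sub, map_smul, smul_eq_mul, mul_assoc, inv_mul_cancel₀ hτ, mul_one, sub_self]
      have hτz : τ (z * x') = 0 := (mul_eq_zero.1 ((hb x').symm.trans (hφn _ hx'I.1))).resolve_left hb0
      by_contra hnot
      obtain ⟨l, hl, hlQ⟩ := Submodule.exists_dual_map_eq_bot_of_notMem hnot inferInstance
      have hlQ' : ∀ q ∈ Q, l q = 0 := fun q hq => by
        have : l q ∈ Q.map l := Submodule.mem_map_of_mem hq
        rwa [hlQ, Submodule.mem_bot] at this
      apply hl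
      -- `l` restricted to the corner is symmetric, so given by a central element
      let l' : R →ₗ[k] k := l.comp ((LinearMap.mulLeft k f).comp (LinearMap.mulRight k f))
      have hl' : ∀ y, l' y = l (f * y * f) := fun y => by simp [l', mul_assoc]
      have hsym : ∀ a c, l (f * a * f * (f * c * f)) = l (f * c * f * (f * a * f)) := by
        intro a c
        have hn : ∀ y, P (f * y * f - C y • f) := fun y =>
          ⟨hCn y, by rw [mul_sub, hf.left, mul_smul_comm, hf.idem],
            by rw [sub_mul, hf.right, smul_mul_assoc, hf.idem]⟩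
        set n := f * a * f - C a • f with hn'
        set m := f * c * f - C c • f with hm'
        have hfn : f * n = n := (hn a).2.1
        have hnf : n * f = n := (hn a).2.2
        have hfm : f * m = m := (hn c).2.1
        have hmf : m * f = m := (hn c).2.2
        rw [show f * a * f = C a • f + n by rw [hn']; abel, show f * c * f = C c • f + m by
          rw [hm']; abel]
        simp only [add_mul, mul_add, smul_mul_assoc, mul_smul_comm, hf.idem, hfn, hnf, hfm, hmf,
          map_add, map_smul, smul_eq_mul]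
        rw [hlQ' (n * m) (Submodule.subset_span ⟨n, m, hn a, hn c, rfl⟩),
          hlQ' (m * n) (Submodule.subset_span ⟨m, n, hn c, hn a, rfl⟩)]
        ring
      obtain ⟨c, hce, hcl⟩ := D.toSymBlk.exists_rep l'
      have hfe : f * e = f := by rw [← D.central, hf.le]
      have hcl' : ∀ y, τ (c * y) = l (f * y * f) := fun y => by
        rw [hcl, hl', show f * (e * y) * f = f * e * y * f by simp only [mul_assoc], hfe]
      set c₀ := f * c * f with hc₀
      have hc0l : ∀ y, τ (c₀ * y) = l (f * y * f) := fun y => by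
        rw [hc₀, show f * c * f * y = f * (c * f * y) by simp only [mul_assoc], D.symm,
          show c * f * y * f = c * (f * y * f) by simp only [mul_assoc], hcl', hf.left, hf.right]
      have hc0comm : ∀ a, c₀ * (f * a * f) = f * a * f * c₀ := by
        intro a
        refine sub_eq_zero.1 (D.nondeg _ ?_ fun y => ?_)
        · simp only [hc₀, mul_sub, ← mul_assoc, hf.le]
        · rw [sub_mul, map_sub, mul_assoc c₀, hc0l, D.symm (f * a * f * c₀) y,
            ← mul_assoc y (f * a * f) c₀, D.symm _ c₀, hc0l,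
            show f * (f * a * f * y) * f = f * a * f * (f * y * f) by
              rw [show f * (f * a * f * y) * f = (f * f) * a * f * y * f by simp only [mul_assoc],
                hf.idem, show f * a * f * (f * y * f) = f * a * (f * f) * y * f by
                  simp only [mul_assoc], hf.idem],
            show f * (y * (f * a * f)) * f = f * y * f * (f * a * f) by
              rw [show f * (y * (f * a * f)) * f = f * y * f * a * (f * f) by simp only [mul_assoc],
                hf.idem, show f * y * f * (f * a * f) = f * y * (f * f) * a * f by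
                  simp only [mul_assoc], hf.idem],
            hsym, sub_self]
      obtain ⟨ι, _, X, Y, hXY⟩ := D.exists_sum_eq hf
      have hc0f : f * c₀ = c₀ ∧ c₀ * f = c₀ := ⟨hf.left, hf.right⟩
      set c₁ := e * ∑ i, X i * c₀ * Y i with hc₁
      have key : ∀ a b, c₁ * (a * f * b) = a * c₀ * b ∧ a * f * b * c₁ = a * c₀ * b := by
        intro a b
        constructor
        · rw [hc₁, mul_assoc, Finset.sum_mul]
          have h : ∀ i, X i * c₀ * Y i * (a * f * b) = X i * f * Y i * (a * c₀ * b) := by
            intro i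
            calc X i * c₀ * Y i * (a * f * b)
                = X i * (c₀ * f) * Y i * (a * f * b) := by rw [hc0f.2]
              _ = X i * (c₀ * (f * (Y i * a) * f)) * b := by simp only [mul_assoc]
              _ = X i * (f * (Y i * a) * f * c₀) * b := by rw [hc0comm]
              _ = X i * f * Y i * (a * (f * c₀) * b) := by simp only [mul_assoc]
              _ = _ := by rw [hc0f.1]
          rw [Finset.sum_congr rfl fun i _ => h i, ← Finset.sum_mul, hXY, ← mul_assoc, D.idem,
            ← mul_assoc, ← mul_assoc, D.central, mul_assoc a e, ← hc0f.1, ← mul_assoc e, hf.le]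
        · rw [hc₁, ← mul_assoc, ← D.central, mul_assoc, Finset.mul_sum]
          have h : ∀ i, a * f * b * (X i * c₀ * Y i) = a * c₀ * b * (X i * f * Y i) := by
            intro i
            calc a * f * b * (X i * c₀ * Y i)
                = a * f * b * (X i * (f * c₀) * Y i) := by rw [hc0f.1]
              _ = a * (f * (b * X i) * f * c₀) * Y i := by simp only [mul_assoc]
              _ = a * (c₀ * (f * (b * X i) * f)) * Y i := by rw [hc0comm]
              _ = a * (c₀ * f) * b * (X i * f * Y i) := by simp only [mul_assoc]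
              _ = _ := by rw [hc0f.2]
          rw [Finset.sum_congr rfl fun i _ => h i, ← Finset.mul_sum, hXY, ← D.central (a * c₀ * b),
            ← mul_assoc e e, D.idem, ← mul_assoc, ← mul_assoc, D.central, mul_assoc a e, ← hc0f.1,
            ← mul_assoc e, hf.le]
      have hc1c : ∀ y, c₁ * y = y * c₁ := by
        intro y
        have h1 : c₁ * (e * y) = e * y * c₁ := by
          rw [← hXY, Finset.sum_mul, Finset.mul_sum, Finset.sum_mul]
          exact Finset.sum_congr rfl fun i _ => by
            rw [show X i * f * Y i * y = X i * f * (Y i * y) by simp only [mul_assoc],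
              (key _ _).1, (key _ _).2]
        have he1 : e * c₁ = c₁ := D.toSymBlk.e_mem _
        have hce : c₁ * e = c₁ := by rw [← D.central, he1]
        rw [← mul_assoc, hce, D.central y, mul_assoc y e c₁, he1] at h1
        exact h1
      obtain ⟨a, β, hab⟩ := D.centre c₁ (D.toSymBlk.e_mem _) hc1c
      have hc0eq : c₀ = a • f + β • (z * f) := by
        have h := (key f f).1
        rw [show f * f * f = f by rw [hf.idem, hf.idem], show f * c₀ * f = c₀ by rw [hf.left, hf.right]]
          at h
        rw [← h, hab, add_mul, smul_mul_assoc, smul_mul_assoc, hf.le]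
      have hval := hc0l x'
      rw [show f * x' * f = x' by rw [hx'I.2.1, hx'I.2.2], hc0eq, add_mul, smul_mul_assoc,
        smul_mul_assoc, hx'I.2.1, mul_assoc z, hx'I.2.1, map_add, map_smul, map_smul, hτ0, hτz,
        smul_zero, smul_zero, add_zero] at hval
      exact hval.symm
    -- so the nilpotent corner equals its square, which is impossible
    let Stable : Submodule k R → Prop := fun S => S ≤ I ∧ S ≠ I ∧ ∀ a, P a → ∀ s ∈ S, a * s ∈ S
    have hI0 : I ≠ ⊥ := fun h => hτ (by
      have h0 := hQI hq₀
      rw [h, Submodule.mem_bot] at h0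
      rw [h0, map_zero])
    have hex : ∃ n S, Stable S ∧ Module.finrank k I - Module.finrank k S = n :=
      ⟨_, ⊥, ⟨bot_le, fun h => hI0 h.symm, fun a _ s hs => by
        rw [(Submodule.mem_bot k).1 hs, mul_zero]; exact Submodule.zero_mem _⟩, rfl⟩
    obtain ⟨S, ⟨hSI, hSne, hSst⟩, hSn⟩ := Nat.find_spec hex
    have hmax : ∀ S', Stable S' → S ≤ S' → S = S' := fun S' hS' hle => by
      by_contra hne
      have h1 := Submodule.finrank_lt_finrank_of_lt (lt_of_le_of_ne hle hne)
      have h2 := Submodule.finrank_mono hS'.1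
      exact Nat.find_min hex (m := Module.finrank k I - Module.finrank k S')
        (by rw [← hSn]; omega) ⟨S', hS', rfl⟩
    have hsq : ∀ a w, P a → P w → a * w ∈ S := by
      intro a w ha hw
      by_cases hwS : w ∈ S
      · exact hSst a ha w hwS
      let S' : Submodule k R := S ⊔ I.map (LinearMap.mulRight k w)
      have hS'I : S' ≤ I := sup_le hSI (by
        rintro _ ⟨a', ha', rfl⟩; exact hPmul a' w ha' hw)
      have hwne : w ∉ S' := by
        intro hmem
        obtain ⟨s, hs, _, ⟨a', ha', rfl⟩, hsum⟩ := Submodule.mem_sup.1 hmem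
        apply hwS
        simp only [LinearMap.mulRight_apply] at hsum
        have hj : ∀ j : ℕ, w - a' ^ (j + 1) * w ∈ S := by
          intro j
          induction j with
          | zero => rw [zero_add, pow_one]; rwa [show w - a' * w = s by rw [sub_eq_iff_eq_add, hsum]]
          | succ j ih =>
            have h1 := hSst a' ha' _ ih
            have h2 : w - a' * w ∈ S := by rwa [show w - a' * w = s by rw [sub_eq_iff_eq_add, hsum]]
            have h3 := S.add_mem h2 h1
            rwa [mul_sub, ← mul_assoc, ← pow_succ' a', sub_add_sub_cancel] at h3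
        obtain ⟨n, hn⟩ := ha'.1
        have h := hj n
        rwa [pow_succ, hn, zero_mul, zero_mul, sub_zero] at h
      have hst' : Stable S' := ⟨hS'I, fun h => hwne (h ▸ (show P w from hw)), fun a' ha' s hs => by
        obtain ⟨s₁, hs₁, _, ⟨a'', ha'', rfl⟩, rfl⟩ := Submodule.mem_sup.1 hs
        rw [mul_add]
        refine Submodule.add_mem_sup (hSst a' ha' s₁ hs₁) ⟨a' * a'', hPmul a' a'' ha' ha'', ?_⟩
        simp only [LinearMap.mulRight_apply, mul_assoc]⟩
      rw [hmax S' hst' le_sup_left]
      exact Submodule.mem_sup_right ⟨a, ha, rfl⟩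
    exact hSne (le_antisymm hSI (hIQ.trans (Submodule.span_le.2 fun x ⟨a, w, ha, hw, hx⟩ =>
      hx ▸ hsq a w ha hw)))
  -- vanishing of the form forces vanishing
  refine D.nondeg (u * v) (by rw [← mul_assoc, ← hul, ← mul_assoc e, hf.le]) fun y => ?_
  have h : u * v * y = f * (u * v * y) := by rw [← mul_assoc f, ← mul_assoc f, hul]
  rw [h, D.symm, show u * v * y * f = u * (v * f * y * f) by rw [hvr]; simp only [mul_assoc],
    show v * f * y * f = v * (f * y * f) by simp only [mul_assoc]]
  exact hzero _ (Submodule.subset_span ⟨u, _, ⟨hu, hul, hur⟩, hPmulr v y ⟨hv, hvl, hvr⟩, rfl⟩)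

/-- The block has dimension twice a square. -/
theorem finrank_eq : ∃ n : ℕ,
    Module.finrank k (LinearMap.range (LinearMap.mulLeft k e)) = 2 * n ^ 2 := by
  classical
  obtain ⟨f, hf⟩ : ∃ f, IsMinIdem e f := by
    by_contra hcon
    push Not at hcon
    have h := mem_of_minIdem_mem (e := e) (⊥ : Submodule k R) (fun f hf => absurd hf (hcon f)) e
      D.idem D.idem
    rw [Submodule.mem_bot] at h
    exact D.z_ne (by rw [← D.z_mem, h, zero_mul])
  obtain ⟨C, hCn, hCf, hCmul, hCff⟩ := hf.exists_functional (k := k)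
  obtain ⟨W, Θ, φ, hsurj, hΘe, -, -, hker, hφtr, hφf, hφs, hφe, hφn⟩ := D.toSymBlk.exists_module hf hCf hCmul hCff
  obtain ⟨b, hb⟩ := D.eq_smul_z φ hφs hφe hφn
  have hb0 : b ≠ 0 := fun h => by rw [hb f, h, zero_mul] at hφf; exact one_ne_zero hφf.symm
  obtain ⟨ι, _, X, Y, hXY⟩ := D.exists_sum_eq hf
  refine ⟨Module.finrank k W, ?_⟩
  set E := LinearMap.range (LinearMap.mulLeft k e)
  have hE : ∀ u : E, e * (u : R) = u := by
    rintro ⟨_, w, rfl⟩
    exact D.toSymBlk.e_mem w
  let ΘE : E →ₗ[k] Module.End k W := Θ.comp E.subtype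
  have hrange : Module.finrank k (LinearMap.range ΘE) = Module.finrank k W ^ 2 := by
    rw [LinearMap.range_eq_top.2 (fun T => by
      obtain ⟨a, rfl⟩ := hsurj T
      exact ⟨⟨e * a, a, rfl⟩, hΘe a⟩), finrank_top]
    exact (Module.finrank_linearMap k k W W).trans (sq _).symm
  set N := LinearMap.ker ΘE with hN
  have hNz : ∀ u : E, ΘE u = 0 ↔ z * (u : R) = 0 := by
    intro u
    constructor
    · intro h
      refine D.nondeg _ (by rw [← mul_assoc, D.z_mem]) fun y => ?_
      have h1 : φ ((u : R) * y) = 0 := by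
        have hker' := (hker u).1 h
        rw [hφtr, ← map_zero (LinearMap.trace k W)]
        congr 1
        rw [hker]
        intro x w
        rw [show w * ((u : R) * y) * x = w * u * (y * x) by simp only [mul_assoc]]
        exact hker' _ _
      rw [mul_assoc]
      exact (mul_eq_zero.1 ((hb _).symm.trans h1)).resolve_left hb0
    · intro h
      show Θ u = 0
      rw [hker]
      intro x y
      have h1 : φ ((u : R) * (x * f * y)) = 0 := by
        rw [hb, ← mul_assoc, h, zero_mul, map_zero, mul_zero]
      rw [show (u : R) * (x * f * y) = u * (x * f) * y by simp only [mul_assoc], hφs,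
        show y * ((u : R) * (x * f)) = y * u * x * f by simp only [mul_assoc]] at h1
      have h2 : φ (y * (u : R) * x * f) = φ (f * (y * u * x) * f) := by
        conv_lhs => rw [show y * (u : R) * x * f = (y * u * x * f) * f by rw [mul_assoc _ f, hf.idem]]
        rw [hφs, ← mul_assoc f]
      have h3 : φ (f * (y * (u : R) * x) * f) = C (y * u * x) := by
        have h4 := hφn _ (hCn (y * u * x))
        rw [map_sub, map_smul, hφf, smul_eq_mul, mul_one, sub_eq_zero] at h4
        exact h4
      rw [← h3, ← h2, h1]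
  have hmul : ∀ u v : E, ΘE u = 0 → ΘE v = 0 → (u : R) * v = 0 := by
    intro u v hu hv
    have hnil : ∀ (w : E), ΘE w = 0 → ∀ p q, IsNilpotent (f * (p * (w : R) * q) * f) := by
      intro w hw p q
      have := hCn (p * w * q)
      rwa [(hker (w : R)).1 hw q p, zero_smul, sub_zero] at this
    have key : ∀ i j l, X i * f * Y i * (u : R) * (X j * f * Y j) * v * (X l * f * Y l) = 0 := by
      intro i j l
      calc X i * f * Y i * (u : R) * (X j * f * Y j) * v * (X l * f * Y l)
          = X i * (f * (Y i * u * X j) * (f * (Y j * v * X l) * f)) * Y l := by simp only [mul_assoc]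
        _ = X i * ((f * (Y i * u * X j) * f) * (f * (Y j * v * X l) * f)) * Y l := by
            rw [show (f * (Y i * (u : R) * X j) * f) * (f * (Y j * v * X l) * f) =
              f * (Y i * u * X j) * (f * f) * (Y j * v * X l) * f by simp only [mul_assoc], hf.idem]
            simp only [mul_assoc]
        _ = 0 := by
            rw [D.nil_mul_nil hf (hnil u hu _ _) hf.left hf.right (hnil v hv _ _) hf.left hf.right,
              mul_zero, zero_mul]
    calc (u : R) * v = e * u * e * v * e := by
          rw [hE u, mul_assoc (u : R) e, ← mul_assoc (u : R) e, mul_assoc (u : R), hE v,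
            mul_assoc (u : R) v, ← D.central, hE v]
      _ = 0 := by
          simp only [← hXY, Finset.sum_mul, Finset.mul_sum]
          exact Finset.sum_eq_zero fun i _ => Finset.sum_eq_zero fun j _ =>
            Finset.sum_eq_zero fun l _ => key _ _ _
  -- the kernel pairs trivially with itself
  have hle : Module.finrank k N + Module.finrank k N ≤ Module.finrank k E := by
    let Φ : N →ₗ[k] (E ⧸ N →ₗ[k] k) :=
      { toFun := fun u => N.liftQ ((τ.comp (LinearMap.mulLeft k ((u : E) : R))).comp E.subtype)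
          (fun v hv => by
            show τ (((u : E) : R) * (v : R)) = 0
            rw [hmul _ _ u.2 hv, map_zero])
        map_add' := fun u v => Submodule.linearMap_qext _ (LinearMap.ext fun w => by
          simp [add_mul])
        map_smul' := fun r u => Submodule.linearMap_qext _ (LinearMap.ext fun w => by simp) }
    have hinj : Function.Injective Φ := by
      rw [← LinearMap.ker_eq_bot, LinearMap.ker_eq_bot']
      intro u hu
      refine Subtype.ext (Subtype.ext (D.nondeg _ (hE _) fun y => ?_))
      have h := LinearMap.congr_fun hu (Submodule.Quotient.mk ⟨e * y, y, rfl⟩)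
      simp only [LinearMap.zero_apply] at h
      change τ (((u : E) : R) * (e * y)) = 0 at h
      rwa [← mul_assoc, ← D.central, hE] at h
    have h := LinearMap.finrank_le_finrank_of_injective hinj
    rw [show Module.finrank k (E ⧸ N →ₗ[k] k) = Module.finrank k (E ⧸ N) from
      Subspace.dual_finrank_eq] at h
    have := Submodule.finrank_quotient_add_finrank N
    omega
  -- and contains the multiples of `z`
  let Z : E →ₗ[k] E := ((LinearMap.mulLeft k z).comp E.subtype).codRestrict E
    (fun u => ⟨z * u, by simp only [LinearMap.mulLeft_apply, LinearMap.comp_apply,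
      Submodule.subtype_apply, ← mul_assoc, D.z_mem]⟩)
  have hZker : LinearMap.ker Z = N := by
    ext u
    rw [hN, LinearMap.mem_ker, LinearMap.mem_ker, hNz, Subtype.ext_iff]
    rfl
  have hZle : LinearMap.range Z ≤ N := by
    rintro _ ⟨u, rfl⟩
    rw [hN, LinearMap.mem_ker, hNz]
    show z * (z * (u : R)) = 0
    rw [← mul_assoc, D.z_sq, zero_mul]
  have h1 := LinearMap.finrank_range_add_finrank_ker ΘE
  have h2 := LinearMap.finrank_range_add_finrank_ker Z
  have h3 := Submodule.finrank_mono hZle
  rw [hrange, ← hN] at h1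
  rw [hZker] at h2
  omega

end SymData

end CfsgLib.TwoChars
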